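import Groth.Agent.Lib.ResProp.FinBirMain
import Groth.Agent.Lib.Ample.RelAmple
import Groth.Agent.Lib.ProjQ9.Basic
import Groth.Agent.Lib.Nagata6.Noetherian
import Groth.Agent.Lib.QuasiDom6.Main
import Groth.Agent.Lib.LocImm8.Localizable
import Groth.Agent.S18211
import Groth.Prelude.Def_MoreMor

/-!
# Thick neighbourhoods with an ample bundle
-/

set_option autoImplicit false
set_option backward.isDefEq.respectTransparency false
set_option linter.style.haveILetI false

universe u

open AlgebraicGeometry CategoryTheory CategoryTheory.Limits TopologicalSpace Opposite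

noncomputable section

namespace GrothLib.ThickNhd24

/-- An affine scheme of finite type over an affine base is open in a projective scheme. -/
theorem exists_openImmersion_projective {U S : Scheme.{u}} [IsAffine U] [IsAffine S] (g : U ⟶ S)
    [LocallyOfFiniteType g] :
    ∃ (P : Scheme.{u}) (j : U ⟶ P) (p : P ⟶ S), IsOpenImmersion j ∧ RelProj.IsProjective p ∧ j ≫ p = g := by
  obtain ⟨N, i, hi, hic, hib⟩ := GrothLib.Chow.exists_immersion g
  haveI := hi
  haveI := hic
  haveI := GrothLib.Chow.isProper_toBase N S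
  refine ⟨i.image, i.toImage, i.imageι ≫ CohB1.ProjSpaceOver.toBase N S, inferInstance, ?_, ?_⟩
  · exact GrothLib.ProjAlg.isProjective_of_isHProjective
      (GrothLib.Chow.isHProjective_of_isProper _ i.imageι rfl)
  · rw [Scheme.Hom.toImage_imageι_assoc, hib]

/-- Around any point of a separated scheme of finite type over a Noetherian ring there is an open
containing the points of codimension at most one with an ample bundle coming from a blow-up. -/
theorem exists_thick_nhd {A : Type u} [CommRing A] [IsNoetherianRing A] {X : Scheme.{u}}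
    (f : X ⟶ Spec (CommRingCat.of A)) [IsSeparated f] [LocallyOfFiniteType f] [QuasiCompact f] (x : X) :
    ∃ (U V : X.Opens) (X' : Scheme.{u}) (b : X' ⟶ X) (L : (V : Scheme.{u}).Modules) (L' : X'.Modules) (n : ℕ),
      x ∈ U ∧ U ≤ V ∧ (∀ y : X, ringKrullDim (X.presheaf.stalk y) ≤ 1 → y ∈ V) ∧
      IsNoetherian X' ∧ IsProper b ∧ Dense (U : Set X) ∧ Dense ((b ⁻¹ᵁ U : X'.Opens) : Set X') ∧
      IsIso (b ∣_ U) ∧ CohB1.IsAmple L' ∧ CohB1.IsAmple L ∧ 1 ≤ n ∧
      Nonempty ((Scheme.Modules.pullback (b ∣_ V)).obj L ≅ (CohB1.tensorPow L' n).restrict (b ⁻¹ᵁ V).ι) := by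
  haveI : IsNoetherian X := GrothLib.Nagata6.isNoetherian_of_ft f
  obtain ⟨U, hUa, hxU, hUd⟩ := GrothLib.Chow.exists_dense_affine
    (X := X) TopologicalSpace.NoetherianSpace.finite_irreducibleComponents x
  haveI : IsAffine (U : Scheme.{u}) := hUa
  obtain ⟨P, j, p, hj, hp, hjp⟩ := exists_openImmersion_projective (U.ι ≫ f)
  haveI := hj
  haveI := GrothLib.ProjAlg.isProper_of_isProjective hp
  haveI : IsNoetherian P := GrothLib.Nagata6.isNoetherian_of_ft p
  haveI : EssFT.LocallyEssFiniteType f := GrothLib.LocImm8.locallyEssFiniteType_of_locallyOfFiniteType f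
  haveI : EssFT.EssFiniteType f := ⟨⟩
  haveI : IsNoetherian (U : Scheme.{u}) := GrothLib.Nagata6.isNoetherian_of_ft (U.ι ≫ f)
  have hUr : Set.range (fun y => U.ι y) = (U : Set X) := Scheme.Opens.range_ι U
  obtain ⟨𝓘, X', P', b, j', p', hb, hdis, hj', hp', hjp'⟩ := Groth.Agent.S18211.result f U.ι
    (GrothLib.LocImm8.isLocImmersion_of_openImmersion _) (by rw [hUr]; exact hUd) j p
    (GrothLib.LocImm8.isLocImmersion_of_openImmersion _) hp hjp
  rw [hUr] at hdis
  haveI : IsProper b :=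
    GrothLib.Nagata6.isProper_of_isBlowUp (GrothLib.Nagata6.isFiniteTypeIdeal_of_noetherian 𝓘) hb
  haveI : IsNoetherian X' := GrothLib.Nagata6.isNoetherian_of_ft b
  have hUle : U ≤ 𝓘.support.compl := fun y hy h => Set.disjoint_left.1 hdis h hy
  haveI hiso0 := GrothLib.BlowUp.isIso_off_center hb
  haveI hiso : IsIso (b ∣_ U) := GrothLib.Nagata6.isIso_restrict_of_le b _ U hUle
  have hd' : Dense ((b ⁻¹ᵁ U : X'.Opens) : Set X') := by
    set C : X.Opens := 𝓘.support.compl
    rw [dense_iff_inter_open]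
    intro W hW hWne
    have hC := GrothLib.QuasiDom6.dense_compl_support hb.1
    rw [Scheme.IdealSheafData.support_comap] at hC
    obtain ⟨y, hyW, hyC⟩ := dense_iff_inter_open.1 hC W hW hWne
    have hy : b y ∈ C := hyC
    have hopen := (b ∣_ C).isOpenEmbedding.isOpenMap _ (hW.preimage (b ⁻¹ᵁ C).ι.continuous)
    obtain ⟨z, hzU, hzW⟩ := (hUd.preimage C.2.isOpenMap_subtype_val).inter_open_nonempty _ hopen
      ⟨_, ⟨⟨y, hy⟩, hyW, rfl⟩⟩
    obtain ⟨w, hwW, rfl⟩ := hzU
    refine ⟨(b ⁻¹ᵁ C).ι w, hwW, ?_⟩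
    show b ((b ⁻¹ᵁ C).ι w) ∈ U
    rw [← Scheme.Hom.comp_apply, ← morphismRestrict_ι, Scheme.Hom.comp_apply]
    exact hzW
  haveI := GrothLib.ProjAlg.isProper_of_isProjective hp'
  obtain ⟨-, -, LP, hLP⟩ := GrothLib.ProjQ9.isQuasiProjective_of_isProjective hp'
  have hP' := GrothLib.Ample.isAmple_of_isRelAmple_top hLP
  haveI : X'.IsSeparated := ⟨by
    rw [show terminal.from X' = (b ≫ f) ≫ terminal.from _ from terminal.hom_ext _ _]
    infer_instance⟩
  obtain ⟨V, hUV, -, hV, -, L, n, hL, hn, hiL⟩ := GrothLib.FinBir24.exists_thick_open_ample b _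
    (GrothLib.Ample.isAmple_pullback_of_isEmbedding j' (GrothLib.LocImm8.isEmbedding hj') hP') U hiso hUd hd'
  exact ⟨U, V, X', b, L, _, n, hxU, hUV, hV, inferInstance, inferInstance, hUd, hd', hiso,
    GrothLib.Ample.isAmple_pullback_of_isEmbedding j' (GrothLib.LocImm8.isEmbedding hj') hP', hL, hn, hiL⟩

/-- An ample module gives an ample family. -/
theorem hasAmpleFamily_of_isAmple {X : Scheme.{u}} {L : X.Modules} (hL : CohB1.IsAmple L) :
    MoreMor.HasAmpleFamily X := by
  refine ⟨hL.2.1, fun x => ?_⟩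
  obtain ⟨n, s, hx, ha⟩ := hL.2.2 x
  exact ⟨L, n + 1, s, hL.1, Nat.succ_pos _, hx, ha⟩

end GrothLib.ThickNhd24
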