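import Groth.Agent.Lib.ResProp.NilGlue
import Mathlib.AlgebraicGeometry.Limits
import Mathlib.Topology.NoetherianSpace

/-!
# Affine opens around the generic points of a closed set, disjoint on it
-/

set_option autoImplicit false
set_option backward.isDefEq.respectTransparency false
set_option backward.isDefEq.respectTransparency.types false
set_option linter.style.haveILetI false
set_option maxHeartbeats 1000000

universe u

open CategoryTheory CategoryTheory.Limits AlgebraicGeometry Opposite TopologicalSpace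

noncomputable section

namespace GrothLib.NilGlue24

/-- Finitely many affine opens, pairwise disjoint on a closed set, meeting it densely. -/
theorem exists_affine_opens_dense {X : Scheme.{u}} [NoetherianSpace X] {Y : Set X} (hY : IsClosed Y) :
    ∃ (n : ℕ) (T : Fin n → X.Opens), (∀ i, IsAffineOpen (T i)) ∧
      (∀ i j, i ≠ j → ∀ x, x ∈ T i → x ∈ T j → x ∉ Y) ∧ Y ⊆ closure (Y ∩ ⋃ i, (T i : Set X)) := by
  classical
  obtain ⟨S, hSf, hSc, hSi, hS⟩ := NoetherianSpace.exists_finite_set_isClosed_irreducible hY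
  let S' : Set (Set X) := {t | Maximal (· ∈ S) t}
  have hS'f : S'.Finite := hSf.subset fun t ht => ht.prop
  obtain ⟨n, t, htinj, htr⟩ := hS'f.fin_param
  have ht : ∀ i, Maximal (· ∈ S) (t i) := fun i => htr.le ⟨i, rfl⟩
  have hcov : Y ⊆ ⋃ i, t i := by
    rw [hS]
    rintro x ⟨s, hs, hx⟩
    obtain ⟨s', hs', hmax⟩ := hSf.exists_le_maximal hs
    obtain ⟨i, rfl⟩ : s' ∈ Set.range t := htr.ge hmax
    exact Set.mem_iUnion.2 ⟨i, hs' hx⟩
  choose η hη using fun i => QuasiSober.sober (hSi (t i) (ht i).prop) (hSc (t i) (ht i).prop)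
  let O : Fin n → X.Opens := fun i => ⟨(⋃ j ∈ {j | j ≠ i}, t j)ᶜ,
    ((Set.toFinite _).isClosed_biUnion fun j _ => hSc (t j) (ht j).prop).isOpen_compl⟩
  have hηO : ∀ i, η i ∈ O i := fun i => by
    intro h
    obtain ⟨j, hj, hx⟩ := Set.mem_iUnion₂.1 h
    have hle : t i ⊆ t j := (hη i).def.symm.le.trans ((hSc (t j) (ht j).prop).closure_subset_iff.2
      (Set.singleton_subset_iff.2 hx))
    exact hj (htinj (Set.Subset.antisymm ((ht i).2 (ht j).prop hle) hle))
  choose T hTa hηT hTO using fun i => exists_isAffineOpen_mem_and_subset (hηO i)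
  refine ⟨n, T, hTa, fun i j hij x hxi hxj hxY => ?_, fun x hx => ?_⟩
  · obtain ⟨k, hk⟩ := Set.mem_iUnion.1 (hcov hxY)
    have h1 : k = i := not_not.1 fun h => hTO i hxi (Set.mem_iUnion₂.2 ⟨k, h, hk⟩)
    have h2 : k = j := not_not.1 fun h => hTO j hxj (Set.mem_iUnion₂.2 ⟨k, h, hk⟩)
    exact hij (h1.symm.trans h2)
  · obtain ⟨i, hi⟩ := Set.mem_iUnion.1 (hcov hx)
    have hiY : η i ∈ Y := hS ▸ Set.mem_sUnion.2 ⟨t i, (ht i).prop, (hη i).mem⟩
    exact closure_mono (Set.singleton_subset_iff.2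
      (show η i ∈ Y ∩ ⋃ j, (T j : Set X) from ⟨hiY, Set.mem_iUnion.2 ⟨i, hηT i⟩⟩)) ((hη i).def.symm.le hi)

/-- A closed subscheme covered by pairwise disjoint traces of affine opens is affine. -/
theorem isAffine_of_disjoint_cover {X Z : Scheme.{u}} (g : Z ⟶ X) [IsAffineHom g] {ι : Type} [Finite ι]
    (T : ι → X.Opens) (hTa : ∀ i, IsAffineOpen (T i))
    (hd : ∀ i j, i ≠ j → ∀ z, g.base z ∈ T i → g.base z ∈ T j → False) (hcov : ∀ z, ∃ i, g.base z ∈ T i) :
    IsAffine Z := by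
  have h : IsAffineOpen (⨆ i, g ⁻¹ᵁ T i) :=
    IsAffineOpen.iSup_of_disjoint (fun i => (hTa i).preimage g) fun i j hij =>
      disjoint_iff_inf_le.2 fun z hz => (hd i j hij z hz.1 hz.2).elim
  rw [show (⨆ i, g ⁻¹ᵁ T i) = ⊤ from eq_top_iff.2 fun z _ => Opens.mem_iSup.2 (hcov z)] at h
  have : IsAffine ((⊤ : Z.Opens) : Scheme.{u}) := h
  exact IsAffine.of_isIso Z.topIso.inv

/-- **The open over which vector bundles lift.** -/
theorem exists_open_lift {X X' : Scheme.{u}} [NoetherianSpace X] (f : X' ⟶ X) [IsClosedImmersion f] [Surjective f]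
    (W : X.Opens) (hW : IsIso (f ∣_ W)) :
    ∃ V : X.Opens, W ≤ V ∧ (W : Set X)ᶜ ⊆ closure ((V : Set X) ∩ (W : Set X)ᶜ) ∧
      (∃ (T : Scheme.{u}) (g : T ⟶ (V : Scheme.{u})), IsClosedImmersion g ∧ IsAffine T ∧
        Set.range (g ≫ V.ι).base = (V : Set X) ∩ (W : Set X)ᶜ) ∧
      ∀ E' : (f ⁻¹ᵁ V : Scheme.{u}).Modules, FlatMod.IsFinLocFree E' →
        ∃ E : (V : Scheme.{u}).Modules, FlatMod.IsFinLocFree E ∧
          Nonempty ((Scheme.Modules.pullback (f ∣_ V)).obj E ≅ E') := by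
  obtain ⟨n, T, hTa, hTd, hTc⟩ := exists_affine_opens_dense W.isOpen.isClosed_compl
  let V : X.Opens := W ⊔ ⨆ i, T i
  have hTV : ∀ i, T i ≤ V := fun i => (le_iSup T i).trans le_sup_right
  have hV : ∀ v : (V : Scheme.{u}), V.ι.base v ∈ W ∨ ∃ i, V.ι.base v ∈ T i := fun v => by
    rcases v.2 with h | h
    · exact Or.inl h
    · exact Or.inr (Opens.mem_iSup.1 h)
  let Ti : Fin n → (V : Scheme.{u}).Opens := fun i => V.ι ⁻¹ᵁ T i
  have hTia : ∀ i, IsAffineOpen (Ti i) := fun i =>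
    (hTa i).preimage_of_isOpenImmersion V.ι (by rw [Scheme.Opens.opensRange_ι]; exact hTV i)
  refine ⟨V, le_sup_left, fun x hx => ?_, ?_, fun E' hE' => ?_⟩
  · refine closure_mono ?_ (hTc hx)
    rintro y ⟨hyY, hy⟩
    obtain ⟨i, hi⟩ := Set.mem_iUnion.1 hy
    exact ⟨hTV i hi, hyY⟩
  · let Z : Closeds (V : Scheme.{u}) :=
      ⟨V.ι.base ⁻¹' (W : Set X)ᶜ, W.isOpen.isClosed_compl.preimage V.ι.continuous⟩
    let I := Scheme.IdealSheafData.vanishingIdeal Z
    have hr : Set.range I.subschemeι.base = (Z : Set (V : Scheme.{u})) := by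
      rw [Scheme.IdealSheafData.range_subschemeι, Scheme.IdealSheafData.coe_support_vanishingIdeal]
    refine ⟨I.subscheme, I.subschemeι, inferInstance, ?_, ?_⟩
    · refine isAffine_of_disjoint_cover I.subschemeι Ti hTia (fun i j hij z hi hj => ?_) fun z => ?_
      · exact hTd i j hij _ hi hj (hr.le ⟨z, rfl⟩ : _ ∈ (Z : Set (V : Scheme.{u})))
      · exact (hV (I.subschemeι.base z)).resolve_left (hr.le ⟨z, rfl⟩ : _ ∈ (Z : Set (V : Scheme.{u})))
    · rw [Scheme.Hom.comp_base, TopCat.coe_comp, Set.range_comp, hr]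
      show V.ι.base '' (V.ι.base ⁻¹' (W : Set X)ᶜ) = _
      rw [Set.image_preimage_eq_inter_range, Scheme.Opens.range_ι, Set.inter_comm]
  · haveI : IsClosedImmersion (f ∣_ V) := inferInstance
    haveI : Surjective (f ∣_ V) := IsZariskiLocalAtTarget.restrict (P := @Surjective) (f := f) ‹_› _
    haveI : IsIso (f ∣_ V ∣_ V.ι ⁻¹ᵁ W) := by
      refine ((MorphismProperty.isomorphisms Scheme.{u}).arrow_mk_iso_iff
        (morphismRestrictRestrict f V (V.ι ⁻¹ᵁ W))).2 ?_
      have : V.ι ''ᵁ (V.ι ⁻¹ᵁ W) = W := by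
        rw [Scheme.Hom.image_preimage_eq_opensRange_inf, Scheme.Opens.opensRange_ι]
        exact inf_eq_right.2 le_sup_left
      exact ((MorphismProperty.isomorphisms Scheme.{u}).arrow_mk_iso_iff (morphismRestrictEq f this)).2 hW
    exact exists_finLocFree_lift (f ∣_ V) (V.ι ⁻¹ᵁ W) Ti hTia
      (fun i j hij x hx => not_not.1 (hTd i j hij _ hx.1 hx.2)) hV hE'

end GrothLib.NilGlue24
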