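import Groth.Agent.Lib.ResProp.FinBirDescent
import Groth.Agent.Lib.ResProp.NilGlueOpen
import Groth.Agent.Lib.Ample.Finite
import Groth.Agent.S1608
import Groth.Prelude.Def_KSix
import Mathlib.AlgebraicGeometry.ZariskisMainTheorem

/-!
# An open with an ample bundle around the points of codimension at most one
-/

set_option autoImplicit false
set_option backward.isDefEq.respectTransparency false
set_option linter.style.haveILetI false
set_option maxHeartbeats 1000000

universe u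

open AlgebraicGeometry CategoryTheory CategoryTheory.Limits TopologicalSpace Opposite
open GrothLib.Ample

noncomputable section

namespace GrothLib.FinBir24

section Top

variable {X : Scheme.{u}}

/-- The generic points of a closed set of a Noetherian scheme. -/
theorem exists_generic_finite [NoetherianSpace X] {Y : Set X} (hY : IsClosed Y) :
    ∃ G : Finset X, (↑G : Set X) ⊆ Y ∧ ∀ x ∈ Y, ∃ g ∈ G, g ⤳ x := by
  classical
  obtain ⟨S, hSf, hSc, hSi, hS⟩ := NoetherianSpace.exists_finite_set_isClosed_irreducible hY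
  choose η hη using fun t : S => QuasiSober.sober (hSi t t.2) (hSc t t.2)
  haveI := hSf.to_subtype
  cases nonempty_fintype S
  refine ⟨Finset.univ.image η, ?_, fun x hx => ?_⟩
  · intro g hg
    obtain ⟨t, -, rfl⟩ := Finset.mem_image.1 hg
    exact hS ▸ Set.mem_sUnion.2 ⟨t.1, t.2, (hη t).mem⟩
  · obtain ⟨t, ht, hxt⟩ := Set.mem_sUnion.1 (hS ▸ hx : x ∈ ⋃₀ S)
    exact ⟨η ⟨t, ht⟩, Finset.mem_image_of_mem η (Finset.mem_univ _),
      specializes_iff_mem_closure.2 ((hη ⟨t, ht⟩).def.symm ▸ hxt)⟩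

/-- A dense open contains a generization of each point. -/
theorem exists_generization_mem_dense [NoetherianSpace X] (U : X.Opens) (hU : Dense (U : Set X)) (x : X) :
    ∃ ξ ∈ U, ξ ⤳ x := by
  classical
  obtain ⟨G, -, hG⟩ := exists_generic_finite (Y := (Set.univ : Set X)) isClosed_univ
  have hc : IsClosed (⋃ g ∈ ({g | g ∈ G ∧ g ∈ U} : Set X), closure ({g} : Set X)) :=
    Set.Finite.isClosed_biUnion (G.finite_toSet.subset fun g hg => hg.1) fun _ _ => isClosed_closure
  have hle : (U : Set X) ⊆ ⋃ g ∈ ({g | g ∈ G ∧ g ∈ U} : Set X), closure ({g} : Set X) := fun y hy => by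
    obtain ⟨g, hg, hgy⟩ := hG y trivial
    exact Set.mem_biUnion ⟨hg, hgy.mem_open U.2 hy⟩ (specializes_iff_mem_closure.1 hgy)
  obtain ⟨g, hg, hx⟩ := Set.mem_iUnion₂.1 (closure_minimal hle hc (hU x))
  exact ⟨g, hg.2, specializes_iff_mem_closure.2 hx⟩

/-- Outside a dense open, a point of codimension at most one has no proper generization outside it. -/
theorem eq_of_codim_le_one [NoetherianSpace X] (U : X.Opens) (hU : Dense (U : Set X)) {y g : X}
    (hy : ringKrullDim (X.presheaf.stalk y) ≤ 1) (hgy : g ⤳ y) (hg : g ∉ U) : g = y := by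
  by_contra hne
  obtain ⟨ξ, hξ, hξg⟩ := exists_generization_mem_dense U hU g
  have h1 : y < g := lt_iff_le_not_ge.2 ⟨hgy, fun h : y ⤳ g => hne (hgy.antisymm h).eq⟩
  have h2 : g < ξ := lt_iff_le_not_ge.2 ⟨hξg, fun h : g ⤳ ξ => hg (h.mem_open U.2 hξ)⟩
  rw [ringKrullDim_stalk_eq_coheight] at hy
  have h3 : Order.coheight g + 1 ≤ Order.coheight y := Order.coheight_add_one_le h1
  have h4 : Order.coheight ξ + 1 ≤ Order.coheight g := Order.coheight_add_one_le h2
  have h5 : Order.coheight y ≤ 1 := by exact_mod_cast hy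
  have h6 : (2 : ℕ∞) ≤ Order.coheight y := calc
    (2 : ℕ∞) = 0 + 1 + 1 := by norm_num
    _ ≤ Order.coheight ξ + 1 + 1 := by gcongr; exact zero_le
    _ ≤ Order.coheight g + 1 := by gcongr
    _ ≤ Order.coheight y := h3
  exact absurd (h6.trans h5) (by norm_num)

/-- A function on an affine scheme nonvanishing at finitely many points and vanishing on a closed set. -/
theorem exists_basicOpen_finite [IsAffine X] {E C : Set X} (hE : E.Finite) (hC : IsClosed C)
    (hd : Disjoint E C) : ∃ a : Γ(X, ⊤), E ⊆ X.basicOpen a ∧ Disjoint (X.basicOpen a : Set X) C := by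
  classical
  rcases E.eq_empty_or_nonempty with rfl | ⟨e₀, he₀⟩
  · exact ⟨0, Set.empty_subset _, by simp⟩
  let h := (isAffineOpen_top X).fromSpec
  have hbo : ∀ (a : Γ(X, ⊤)) (P : PrimeSpectrum Γ(X, ⊤)), h P ∈ X.basicOpen a ↔ a ∉ P.asIdeal := fun a P => by
    show P ∈ h ⁻¹ᵁ X.basicOpen a ↔ _
    rw [(isAffineOpen_top X).fromSpec_preimage_basicOpen]
    rfl
  have hsurj : ∀ x : X, ∃ P, h P = x := fun x => by
    have : x ∈ Set.range h := by rw [(isAffineOpen_top X).range_fromSpec]; trivial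
    exact this
  choose P hP using hsurj
  let C' : Set (PrimeSpectrum Γ(X, ⊤)) := h ⁻¹' C
  have hC' : IsClosed C' := hC.preimage h.continuous
  let I := PrimeSpectrum.vanishingIdeal C'
  have hI : ∀ e ∈ E, ¬ I ≤ (P e).asIdeal := fun e he hle => by
    have : P e ∈ closure C' := by
      rw [← PrimeSpectrum.zeroLocus_vanishingIdeal_eq_closure]
      exact hle
    rw [hC'.closure_eq] at this
    exact Set.disjoint_left.1 hd he (by rw [← hP e]; exact this)
  have hunion : ¬ ((I : Set Γ(X, ⊤)) ⊆ ⋃ e ∈ (↑hE.toFinset : Set X), ((P e).asIdeal : Set Γ(X, ⊤))) := by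
    rw [Ideal.subset_union_prime e₀ e₀ fun e _ _ _ => (P e).isPrime]
    rintro ⟨e, he, hle⟩
    exact hI e (hE.mem_toFinset.1 he) hle
  obtain ⟨a, haI, ha⟩ := Set.not_subset.1 hunion
  refine ⟨a, fun e he => ?_, Set.disjoint_left.2 fun x hxa hxC => ?_⟩
  · rw [← hP e]
    exact (hbo a _).2 fun hae => ha (Set.mem_biUnion (Finset.mem_coe.2 (hE.mem_toFinset.2 he)) hae)
  · obtain ⟨Q, rfl⟩ : ∃ Q, h Q = x := ⟨P x, hP x⟩
    exact (hbo a Q).1 hxa (PrimeSpectrum.mem_vanishingIdeal C' a |>.1 haI Q hxC)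

end Top

section Main

variable {X X' : Scheme.{u}} (f : X' ⟶ X)

/-- The open over which a proper morphism is finite. -/
def finLocus [IsProper f] : X.Opens :=
  ⟨_, (f.isClosedMap _ f.quasiFiniteLocus.isOpen.isClosed_compl).isOpen_compl⟩

theorem mem_finLocus [IsProper f] {y : X} : y ∈ finLocus f ↔ ∀ z, f z = y → f.QuasiFiniteAt z :=
  ⟨fun h z hz => by by_contra H; exact h ⟨z, H, hz⟩, fun h ⟨z, hz, e⟩ => hz (h z e)⟩

theorem isFinite_restrict_finLocus [IsProper f] {V : X.Opens} (hV : V ≤ finLocus f) : IsFinite (f ∣_ V) := by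
  suffices LocallyQuasiFinite (f ∣_ V) from .of_isProper_of_locallyQuasiFinite _
  rw [← Scheme.Hom.quasiFiniteLocus_eq_top_iff]
  ext x
  have : f.QuasiFiniteAt ((f ⁻¹ᵁ V).ι x) := (mem_finLocus f).1 (hV x.2) _ rfl
  rw [← Scheme.Hom.quasiFiniteAt_comp_iff_of_isOpenImmersion, ← morphismRestrict_ι,
    Scheme.Hom.quasiFiniteAt_comp_iff] at this
  simpa

theorem quasiFiniteAt_of_mem [IsProper f] (U : X.Opens) [IsIso (f ∣_ U)] {z : X'} (hz : f z ∈ U) :
    f.QuasiFiniteAt z := by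
  have h : (f ∣_ U).QuasiFiniteAt ⟨z, hz⟩ := by
    rw [← Scheme.Hom.mem_quasiFiniteLocus, Scheme.Hom.quasiFiniteLocus_eq_top]
    trivial
  have : ((f ∣_ U) ≫ U.ι).QuasiFiniteAt ⟨z, hz⟩ := Scheme.Hom.quasiFiniteAt_comp_iff.2 h
  rw [morphismRestrict_ι, Scheme.Hom.quasiFiniteAt_comp_iff_of_isOpenImmersion] at this
  exact this

/-- **An ample bundle around the points of codimension at most one**, for a proper birational morphism. -/
theorem exists_thick_open_ample [IsNoetherian X] [IsNoetherian X'] [IsProper f] [X'.IsSeparated]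
    (L' : X'.Modules) (hL' : CohB1.IsAmple L') (U : X.Opens) (hU : IsIso (f ∣_ U))
    (hd : Dense (U : Set X)) (hd' : Dense ((f ⁻¹ᵁ U : X'.Opens) : Set X')) :
    ∃ V : X.Opens, U ≤ V ∧
      (∃ (T : Scheme.{u}) (g : T ⟶ (V : Scheme.{u})), IsClosedImmersion g ∧ IsAffine T ∧
        Set.range (g ≫ V.ι).base = (V : Set X) \ (U : Set X)) ∧
      (∀ y : X, ringKrullDim (X.presheaf.stalk y) ≤ 1 → y ∈ V) ∧ IsFinite (f ∣_ V) ∧
      ∃ (L : (V : Scheme.{u}).Modules) (n : ℕ), CohB1.IsAmple L ∧ 1 ≤ n ∧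
        Nonempty ((Scheme.Modules.pullback (f ∣_ V)).obj L ≅ (CohB1.tensorPow L' n).restrict (f ⁻¹ᵁ V).ι) := by
  classical
  haveI : Surjective f := ⟨fun y => by
    have hsub : (U : Set X) ⊆ Set.range f := fun y hy => by
      obtain ⟨z, hz⟩ := (f ∣_ U).surjective ⟨y, hy⟩
      refine ⟨(f ⁻¹ᵁ U).ι z, ?_⟩
      rw [← Scheme.Hom.comp_apply, ← morphismRestrict_ι, Scheme.Hom.comp_apply, hz]
      rfl
    exact closure_minimal hsub f.isClosedMap.isClosed_range (hd y)⟩
  -- generic points of the bad set and the finite set of its points of codimension at most one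
  obtain ⟨G, hGY, hG⟩ := exists_generic_finite U.isOpen.isClosed_compl
  let E : Finset X := G.filter fun g => ringKrullDim (X.presheaf.stalk g) ≤ 1
  have hEY : ∀ e ∈ E, e ∉ U := fun e he => hGY (Finset.mem_filter.1 he).1
  have hEcod : ∀ y, ringKrullDim (X.presheaf.stalk y) ≤ 1 → y ∉ U → y ∈ E := fun y hy hyU => by
    obtain ⟨g, hg, hgy⟩ := hG y hyU
    obtain rfl := eq_of_codim_le_one U hd hy hgy (hGY hg)
    exact Finset.mem_filter.2 ⟨hg, hy⟩
  have hgen : ∀ Z ∈ irreducibleComponents X', ∀ η : X', IsGenericPoint η Z → f.QuasiFiniteAt η := by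
    intro Z hZ η hη
    obtain ⟨ξ, hξ, hξη⟩ := exists_generization_mem_dense (f ⁻¹ᵁ U) hd' η
    have hle : Z ≤ closure {ξ} := hη.def ▸
      closure_minimal (Set.singleton_subset_iff.2 (specializes_iff_mem_closure.1 hξη)) isClosed_closure
    have hmem : ξ ∈ Z := (hZ.2 isIrreducible_singleton.closure hle) (subset_closure rfl)
    obtain rfl : η = ξ := ((hη.specializes hmem).antisymm hξη).eq
    exact quasiFiniteAt_of_mem f U hξ
  have hEΩ : ∀ e ∈ E, e ∈ finLocus f := fun e he => (mem_finLocus f).2 fun z hz =>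
    Groth.Agent.S1608.result f e (Finset.mem_filter.1 he).2 hgen z hz
  -- affine opens around them
  have hsep : ∀ e : E, ∃ T : X.Opens, IsAffineOpen T ∧ e.1 ∈ T ∧ T ≤ finLocus f ∧
      ∀ g ∈ G, g ≠ e.1 → ∀ x ∈ T, ¬ g ⤳ x := by
    rintro ⟨e, he⟩
    let O : X.Opens := ⟨(⋃ g ∈ G.filter (· ≠ e), closure ({g} : Set X))ᶜ,
      (Set.Finite.isClosed_biUnion (Finset.finite_toSet _) fun _ _ => isClosed_closure).isOpen_compl⟩
    have heO : e ∈ finLocus f ⊓ O := ⟨hEΩ e he, fun h => by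
      obtain ⟨g, hg, hge⟩ := Set.mem_iUnion₂.1 h
      obtain ⟨hgG, hne⟩ := Finset.mem_filter.1 hg
      exact hne (eq_of_codim_le_one U hd (Finset.mem_filter.1 he).2 (specializes_iff_mem_closure.2 hge)
        (hGY hgG))⟩
    obtain ⟨T, hT, heT, hTO⟩ := exists_isAffineOpen_mem_and_subset heO
    exact ⟨T, hT, heT, fun x hx => (hTO hx).1, fun g hg hne x hx hgx =>
      (hTO hx).2 (Set.mem_biUnion (Finset.mem_filter.2 ⟨hg, hne⟩) (specializes_iff_mem_closure.1 hgx))⟩
  choose T hTa hTe hTΩ hTsep using hsep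
  let O : X.Opens := U ⊔ ⨆ e, T e
  have hUΩ : U ≤ finLocus f := fun y hy => (mem_finLocus f).2 fun z hz => quasiFiniteAt_of_mem f U (hz ▸ hy)
  have hOΩ : O ≤ finLocus f := sup_le hUΩ (iSup_le hTΩ)
  -- the closed subscheme on the bad part
  let YO : Closeds (O : Scheme.{u}) := ⟨O.ι.base ⁻¹' (U : Set X)ᶜ, U.isOpen.isClosed_compl.preimage O.ι.continuous⟩
  let I := Scheme.IdealSheafData.vanishingIdeal YO
  have hrI : Set.range I.subschemeι.base = (YO : Set (O : Scheme.{u})) := by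
    rw [Scheme.IdealSheafData.range_subschemeι, Scheme.IdealSheafData.coe_support_vanishingIdeal]
  haveI hTaff : IsAffine I.subscheme := by
    refine NilGlue24.isAffine_of_disjoint_cover (ι := Fin E.card) I.subschemeι
      (fun k => O.ι ⁻¹ᵁ T (E.equivFin.symm k)) (fun k => ?_) (fun k l hkl t hk hl => ?_) fun t => ?_
    · exact (hTa _).preimage_of_isOpenImmersion O.ι (by
        rw [Scheme.Opens.opensRange_ι]; exact (le_iSup T _).trans le_sup_right)
    · have hY : I.subschemeι t ∈ (YO : Set (O : Scheme.{u})) := hrI.le ⟨t, rfl⟩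
      obtain ⟨g, hg, hgx⟩ := hG _ hY
      have h1 : g = (E.equivFin.symm k).1 := not_not.1 fun h => hTsep _ g hg h _ hk hgx
      have h2 : g = (E.equivFin.symm l).1 := not_not.1 fun h => hTsep _ g hg h _ hl hgx
      exact hkl (E.equivFin.symm.injective (Subtype.ext (h1.symm.trans h2)))
    · have hY : I.subschemeι t ∈ (YO : Set (O : Scheme.{u})) := hrI.le ⟨t, rfl⟩
      rcases (I.subschemeι t).2 with h | h
      · exact absurd h hY
      · obtain ⟨e, he⟩ := Opens.mem_iSup.1 h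
        exact ⟨E.equivFin e, by rw [Equiv.symm_apply_apply]; exact he⟩
  let τ : I.subscheme ⟶ X := I.subschemeι ≫ O.ι
  have hτinj : Function.Injective τ := O.ι.isOpenEmbedding.injective.comp
    I.subschemeι.isClosedEmbedding.injective
  have hτY : ∀ t, τ t ∉ U := fun t => hrI.le ⟨t, rfl⟩
  have hτO : ∀ t, τ t ∈ O := fun t => (I.subschemeι t).2
  have hτsurj : ∀ x ∈ O, x ∉ U → ∃ t, τ t = x := fun x hxO hxU => by
    obtain ⟨t, ht⟩ : (⟨x, hxO⟩ : (O : Scheme.{u})) ∈ Set.range I.subschemeι.base := hrI.ge hxU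
    exact ⟨t, (congrArg O.ι ht :)⟩
  -- a section whose affine locus contains the fibres over the finite set
  obtain ⟨c, ⟨ec⟩⟩ := exists_cocycle hL'.1
  have hc : c.IsAmp := ((c.isAmple_iff ec).1 hL').2
  haveI : CompactSpace X' := inferInstance
  haveI hOfin : IsFinite (f ∣_ O) := isFinite_restrict_finLocus f hOΩ
  have hfib : (f ⁻¹' (E : Set X)).Finite := by
    refine E.finite_toSet.preimage' fun e he => ?_
    have heO : e ∈ O := Or.inr (Opens.mem_iSup.2 ⟨⟨e, he⟩, hTe ⟨e, he⟩⟩)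
    refine (((f ∣_ O).finite_preimage_singleton ⟨e, heO⟩).image (f ⁻¹ᵁ O).ι).subset fun z hz => ?_
    have hz' : f z = e := hz
    refine ⟨⟨z, show f z ∈ O by rw [hz']; exact heO⟩, ?_, rfl⟩
    apply O.ι.isOpenEmbedding.injective
    rw [← Scheme.Hom.comp_apply, morphismRestrict_ι, Scheme.Hom.comp_apply]
    exact hz'
  obtain ⟨n, s, hEs, hsO, hsa⟩ := c.exists_affine_locus_finite hc hfib (U := f ⁻¹ᵁ O) (by
    intro z hz
    exact Or.inr (Opens.mem_iSup.2 ⟨⟨f z, hz⟩, hTe ⟨f z, hz⟩⟩))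
  -- a function on the bad part
  let C : Set I.subscheme := τ.base ⁻¹' (f.base '' (c.locus s : Set X')ᶜ)
  have hC : IsClosed C := (f.isClosedMap _ (c.locus s).2.isClosed_compl).preimage τ.continuous
  let E' : Set I.subscheme := τ.base ⁻¹' (E : Set X)
  have hE' : E'.Finite := E.finite_toSet.preimage hτinj.injOn
  obtain ⟨a, haE, haC⟩ := exists_basicOpen_finite hE' hC (Set.disjoint_left.2 fun t ht ⟨z, hz, e⟩ =>
    hz (hEs (show f z ∈ (E : Set X) by rw [e]; exact ht)))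
  -- lifted to the affine locus
  haveI : IsAffine (c.locus s : Scheme.{u}) := hsa
  let h : (c.locus s : Scheme.{u}) ⟶ O := X'.homOfLE hsO ≫ (f ∣_ O)
  have hh : ∀ w, O.ι (h w) = f ((c.locus s).ι w) := fun w => by
    rw [← Scheme.Hom.comp_apply]
    show (((X'.homOfLE hsO) ≫ (f ∣_ O)) ≫ O.ι) w = _
    rw [Category.assoc, morphismRestrict_ι, Scheme.homOfLE_ι_assoc, Scheme.Hom.comp_apply]
  haveI : IsClosedImmersion (pullback.snd I.subschemeι h) := MorphismProperty.pullback_snd _ _ inferInstance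
  obtain ⟨-, hsurj⟩ := IsClosedImmersion.isAffine_surjective_of_isAffine (pullback.snd I.subschemeι h)
  obtain ⟨φ₀, hφ₀⟩ := hsurj ((pullback.fst I.subschemeι h).appTop a)
  obtain ⟨φ, hφ⟩ := (bijective_appLE_of_eq (c.locus s).ι (U := c.locus s) (V := ⊤)
    (by rw [Scheme.Opens.opensRange_ι]) (eq_top_iff.2 fun w _ => w.2).symm).2 φ₀
  obtain ⟨m, b, hb⟩ := c.exists_extend s φ
  have hdeg : (n + 1) * m + (n + 1) = (n + 1) * m + n + 1 := by omega
  let s₂ := c.sectCast hdeg (c.mul b s)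
  have hs₂ : c.locus s₂ = X'.basicOpen φ := by
    rw [c.locus_sectCast, c.locus_mul, inf_comm]
    exact (c.basicOpen_eq_of_smul (c.sectPow s m) b (c.le_locus_sectPow s m) φ hb).symm
  have hs₂a : IsAffineOpen (c.locus s₂) := hs₂ ▸ hsa.basicOpen φ
  have hbad : ∀ z, z ∈ c.locus s₂ → f z ∉ U → ∃ t, t ∈ I.subscheme.basicOpen a ∧ τ t = f z := by
    intro z hz hzU
    rw [hs₂] at hz
    have hzs : z ∈ c.locus s := X'.basicOpen_le φ hz
    let w : (c.locus s : Scheme.{u}) := ⟨z, hzs⟩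
    have hzO : f z ∈ O := hsO hzs
    obtain ⟨t, ht⟩ := hτsurj (f z) hzO hzU
    obtain ⟨p, hp1, hp2⟩ := Scheme.Pullback.exists_preimage_pullback (f := I.subschemeι) (g := h) t w
      (O.ι.isOpenEmbedding.injective (ht.trans (hh w).symm))
    refine ⟨t, ?_, ht⟩
    have hw : w ∈ Scheme.basicOpen (c.locus s : Scheme.{u}) φ₀ := by
      rw [← hφ, Scheme.basicOpen_appLE]
      exact ⟨trivial, hz⟩
    have h1 : p ∈ pullback.snd I.subschemeι h ⁻¹ᵁ Scheme.basicOpen (c.locus s : Scheme.{u}) φ₀ := by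
      change pullback.snd I.subschemeι h p ∈ Scheme.basicOpen (c.locus s : Scheme.{u}) φ₀
      rw [hp2]; exact hw
    rw [Scheme.preimage_basicOpen_top, hφ₀, ← Scheme.preimage_basicOpen_top] at h1
    have h2 : pullback.fst I.subschemeι h p ∈ I.subscheme.basicOpen a := h1
    rwa [hp1] at h2
  have hgood : ∀ z t, t ∈ I.subscheme.basicOpen a → τ t = f z → z ∈ c.locus s₂ := by
    intro z t hta ht
    have hzs : z ∈ c.locus s := not_not.1 fun hz =>
      Set.disjoint_left.1 haC hta ⟨z, hz, ht.symm⟩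
    let w : (c.locus s : Scheme.{u}) := ⟨z, hzs⟩
    obtain ⟨p, hp1, hp2⟩ := Scheme.Pullback.exists_preimage_pullback (f := I.subschemeι) (g := h) t w
      (O.ι.isOpenEmbedding.injective (ht.trans (hh w).symm))
    have h1 : p ∈ pullback.fst I.subschemeι h ⁻¹ᵁ I.subscheme.basicOpen a := by
      change pullback.fst I.subschemeι h p ∈ I.subscheme.basicOpen a
      rw [hp1]; exact hta
    rw [Scheme.preimage_basicOpen_top, ← hφ₀, ← Scheme.preimage_basicOpen_top] at h1
    have h2 : pullback.snd I.subschemeι h p ∈ Scheme.basicOpen (c.locus s : Scheme.{u}) φ₀ := h1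
    rw [hp2, ← hφ, Scheme.basicOpen_appLE] at h2
    rw [hs₂]
    exact h2.2
  -- the open
  let K : Set X := τ.base '' (I.subscheme.basicOpen a : Set I.subscheme)ᶜ
  have hKc : ∀ x ∈ O, x ∈ closure K → x ∈ K := by
    intro x hxO hxK
    have hK₀ : IsClosed (I.subschemeι.base '' (I.subscheme.basicOpen a : Set I.subscheme)ᶜ) :=
      I.subschemeι.isClosedEmbedding.isClosedMap _ (I.subscheme.basicOpen a).2.isClosed_compl
    obtain ⟨C', hC', hCeq⟩ := O.ι.isOpenEmbedding.isInducing.isClosed_iff.1 hK₀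
    have hKC : K ⊆ C' := by
      rintro _ ⟨t, ht, rfl⟩
      exact (hCeq.ge ⟨t, ht, rfl⟩ : I.subschemeι t ∈ O.ι.base ⁻¹' C')
    obtain ⟨t, ht, e⟩ := hCeq.le (show (⟨x, hxO⟩ : (O : Scheme.{u})) ∈ O.ι.base ⁻¹' C' from
      closure_minimal hKC hC' hxK)
    exact ⟨t, ht, (congrArg O.ι e :)⟩
  let V : X.Opens := O ⊓ ⟨(closure K)ᶜ, isClosed_closure.isOpen_compl⟩
  have hKY : closure K ⊆ (U : Set X)ᶜ :=
    closure_minimal (by rintro _ ⟨t, -, rfl⟩; exact hτY t) U.isOpen.isClosed_compl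
  have hUV : U ≤ V := fun x hx => ⟨Or.inl hx, fun h => hKY h hx⟩
  have hVY : ∀ x, x ∈ V → x ∉ U → ∃ t, t ∈ I.subscheme.basicOpen a ∧ τ t = x := by
    rintro x ⟨hxO, hxK⟩ hxU
    obtain ⟨t, rfl⟩ := hτsurj x hxO hxU
    exact ⟨t, not_not.1 fun h => hxK (subset_closure ⟨t, h, rfl⟩), rfl⟩
  have hDV : ∀ t, t ∈ I.subscheme.basicOpen a → τ t ∈ V := fun t ht =>
    ⟨hτO t, fun h => by
      obtain ⟨t', ht', e⟩ := hKc _ (hτO t) h
      exact ht' (hτinj e ▸ ht)⟩
  have hVΩ : V ≤ finLocus f := (inf_le_left).trans hOΩ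
  haveI hVfin : IsFinite (f ∣_ V) := isFinite_restrict_finLocus f hVΩ
  refine ⟨V, hUV, ?_, fun y hy => ?_, hVfin, ?_⟩
  · let Ta := I.subscheme.basicOpen a
    haveI : IsAffine (Ta : Scheme.{u}) := (isAffineOpen_top I.subscheme).basicOpen a
    let g : (Ta : Scheme.{u}) ⟶ V := IsOpenImmersion.lift V.ι (Ta.ι ≫ τ) (by
      rw [Scheme.Opens.range_ι]
      rintro _ ⟨t, rfl⟩
      exact hDV _ t.2)
    have hg : g ≫ V.ι = Ta.ι ≫ τ := IsOpenImmersion.lift_fac _ _ _
    have hr : Set.range (g ≫ V.ι).base = (V : Set X) \ U := by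
      rw [hg]
      ext x
      constructor
      · rintro ⟨t, rfl⟩
        exact ⟨hDV _ t.2, hτY _⟩
      · rintro ⟨hxV, hxU⟩
        obtain ⟨t, ht, rfl⟩ := hVY x hxV hxU
        exact ⟨⟨t, ht⟩, rfl⟩
    haveI : IsPreimmersion (g ≫ V.ι) := by rw [hg]; infer_instance
    haveI : IsPreimmersion g := IsPreimmersion.of_comp g V.ι
    refine ⟨_, g, IsClosedImmersion.of_isPreimmersion g ?_, inferInstance, hr⟩
    have hgr : Set.range g.base = V.ι.base ⁻¹' (U : Set X)ᶜ := by
      ext v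
      constructor
      · rintro ⟨t, rfl⟩
        have := hr.le ⟨t, rfl⟩
        exact this.2
      · intro hv
        obtain ⟨t, ht⟩ := hr.ge ⟨v.2, hv⟩
        exact ⟨t, V.ι.isOpenEmbedding.injective ((Scheme.Hom.comp_apply g V.ι t).symm.trans ht)⟩
    rw [hgr]
    exact U.isOpen.isClosed_compl.preimage V.ι.continuous
  · by_cases hyU : y ∈ U
    · exact hUV hyU
    · have hyE := hEcod y hy hyU
      obtain ⟨t, rfl⟩ := hτsurj y (Or.inr (Opens.mem_iSup.2 ⟨⟨y, hyE⟩, hTe ⟨y, hyE⟩⟩)) hyU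
      exact hDV t (haE hyE)
  -- the bundle
  let j := (f ⁻¹ᵁ V).ι
  haveI : Surjective (f ∣_ V) := IsZariskiLocalAtTarget.restrict (P := @Surjective) (f := f) ‹_› _
  haveI : IsIso (f ∣_ V ∣_ V.ι ⁻¹ᵁ U) := by
    refine ((MorphismProperty.isomorphisms Scheme.{u}).arrow_mk_iso_iff
      (morphismRestrictRestrict f V (V.ι ⁻¹ᵁ U))).2 ?_
    have : V.ι ''ᵁ (V.ι ⁻¹ᵁ U) = U := by
      rw [Scheme.Hom.image_preimage_eq_opensRange_inf, Scheme.Opens.opensRange_ι]
      exact inf_eq_right.2 hUV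
    exact ((MorphismProperty.isomorphisms Scheme.{u}).arrow_mk_iso_iff (morphismRestrictEq f this)).2 hU
  haveI : CompactSpace (V : Scheme.{u}) := isCompact_iff_compactSpace.1 (NoetherianSpace.isCompact (V : Set X))
  haveI : CompactSpace (f ⁻¹ᵁ V : Scheme.{u}) :=
    isCompact_iff_compactSpace.1 (NoetherianSpace.isCompact ((f ⁻¹ᵁ V : X'.Opens) : Set X'))
  let N := (n + 1) * m + n + 1
  let L'N := CohB1.tensorPow L' N
  obtain ⟨eN⟩ := c.nonempty_tensorPow_iso ec N
  obtain ⟨eV⟩ := c.nonempty_pullback_iso j eN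
  have hamp : CohB1.IsAmple ((c.comap j).twist N) :=
    (isAmple_iff_of_iso eV).1 (isAmple_pullback_of_isEmbedding j j.isOpenEmbedding.isEmbedding
      ((isAmple_tensorPow_iff hL'.1 (Nat.succ_pos _)).1 hL'))
  have hsV : c.locus s₂ ≤ f ⁻¹ᵁ V := fun z hz => by
    by_cases hzU : f z ∈ U
    · exact hUV hzU
    · obtain ⟨t, ht, e⟩ := hbad z hz hzU
      show f z ∈ V
      rw [← e]
      exact hDV t ht
  obtain ⟨L, hL, ⟨θ⟩⟩ := exists_ample_descent (f ∣_ V) (V.ι ⁻¹ᵁ U) (c.comap j) hamp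
    (c.pullSect j le_top s₂)
    (by
      rw [c.locus_pullSect]
      exact hs₂a.preimage_of_isOpenImmersion j (by rw [Scheme.Opens.opensRange_ι]; exact hsV))
    (fun w hw => by
      rw [c.locus_pullSect]
      have hw' : f (j w) ∉ U := by
        intro h
        apply hw
        show V.ι ((f ∣_ V) w) ∈ U
        rw [← Scheme.Hom.comp_apply, morphismRestrict_ι, Scheme.Hom.comp_apply]
        exact h
      obtain ⟨t, ht, e⟩ := hVY (f (j w)) w.2 hw'
      exact hgood _ t ht e)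
  exact ⟨L, N, hL, Nat.succ_pos _,
    ⟨θ ≪≫ eV.symm ≪≫ ((Scheme.Modules.restrictFunctorIsoPullback j).app L'N).symm⟩⟩

/-- An ample module is an ample family with one member. -/
theorem isAmpleFamily_of_isAmple {X : Scheme.{u}} {L : X.Modules} (hL : CohB1.IsAmple L) :
    KSix.IsAmpleFamily (fun _ : PUnit.{u + 1} => L) := by
  refine ⟨hL.2.1, quasiSeparatedSpace_of_isAmple hL, fun _ => hL.1, fun x => ?_⟩
  obtain ⟨n, s, h⟩ := hL.2.2 x
  exact ⟨PUnit.unit, n, s, h⟩

end Main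

end GrothLib.FinBir24
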