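import Groth.Agent.Lib.Ample.Functorial
import Groth.Agent.Lib.Ample.RelAmple
import Groth.Agent.Lib.Affine25.General
import Mathlib.AlgebraicGeometry.Morphisms.Finite

/-!
# Descending a line bundle along a finite birational morphism

Given a section whose affine locus contains everything over the bad closed set, the bundle is glued from the
trivial one near that set and from itself over the open where nothing changes; its sections vanishing to high
order on the bad set descend.
-/

set_option autoImplicit false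
set_option backward.isDefEq.respectTransparency false
set_option linter.style.haveILetI false
set_option maxHeartbeats 1000000

universe u

open AlgebraicGeometry CategoryTheory CategoryTheory.Limits TopologicalSpace Opposite
open GrothLib.InvExt (mres IsGen)
open GrothLib.Ample

noncomputable section

namespace GrothLib.FinBir24

variable {X X' : Scheme.{u}} (f : X' ⟶ X)

/-- Over an open where the morphism is an isomorphism, points are determined by their images. -/
theorem eq_of_map_eq {U : X.Opens} [IsIso (f ∣_ U)] {z z' : X'} (h : f z ∈ U) (e : f z = f z') : z = z' := by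
  have h' : f z' ∈ U := e ▸ h
  have hz : (f ∣_ U) ⟨z, h⟩ = (f ∣_ U) ⟨z', h'⟩ := by
    apply U.ι.isOpenEmbedding.injective
    rw [← Scheme.Hom.comp_apply, ← Scheme.Hom.comp_apply, morphismRestrict_ι, Scheme.Hom.comp_apply,
      Scheme.Hom.comp_apply]
    exact e
  exact congrArg Subtype.val ((f ∣_ U).homeomorph.injective hz)

/-- Functions over an open where the morphism is an isomorphism. -/
theorem bijective_app {U : X.Opens} [IsIso (f ∣_ U)] {W : X.Opens} (hW : W ≤ U) :
    Function.Bijective (f.app W) := by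
  obtain ⟨W', rfl⟩ : ∃ W', U.ι ''ᵁ W' = W := ⟨U.ι ⁻¹ᵁ W, by
    rw [Scheme.Hom.image_preimage_eq_opensRange_inf, Scheme.Opens.opensRange_ι, inf_eq_right.2 hW]⟩
  have h : IsIso ((f ∣_ U).app W') := inferInstance
  rw [morphismRestrict_app] at h
  haveI := IsIso.of_isIso_comp_right (f.app (U.ι ''ᵁ W'))
    (X'.presheaf.map (eqToHom (image_morphismRestrict_preimage f U W')).op)
  exact ConcreteCategory.bijective_of_isIso _

theorem bijective_appLE {U : X.Opens} [IsIso (f ∣_ U)] {W : X.Opens} (hW : W ≤ U) {V : X'.Opens}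
    (hV : V = f ⁻¹ᵁ W) : Function.Bijective (f.appLE W V hV.le).hom := by
  subst hV
  rw [← Scheme.Hom.app_eq_appLE]
  exact bijective_app f hW

variable [IsFinite f] [Surjective f]

/-- The largest open whose preimage lies in a given open. -/
def img (O : X'.Opens) : X.Opens :=
  ⟨(f.base '' (O : Set X')ᶜ)ᶜ, (f.isClosedMap _ O.isOpen.isClosed_compl).isOpen_compl⟩

theorem preimage_img {O : X'.Opens} (h : ∀ z z', z ∈ O → f z = f z' → z' ∈ O) : f ⁻¹ᵁ img f O = O := by
  ext z
  constructor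
  · intro hz
    by_contra hzO
    exact hz ⟨z, hzO, rfl⟩
  · rintro hz ⟨z', hz', e⟩
    exact hz' (h z z' hz e.symm)

theorem opens_ext {A B : X.Opens} (h : f ⁻¹ᵁ A = f ⁻¹ᵁ B) : A = B := by
  ext p
  obtain ⟨z, rfl⟩ := f.surjective p
  exact (show z ∈ f ⁻¹ᵁ A ↔ z ∈ f ⁻¹ᵁ B by rw [h])

theorem isAffineOpen_of_preimage {B : X.Opens} (h : IsAffineOpen (f ⁻¹ᵁ B)) : IsAffineOpen B := by
  haveI : IsAffine (f ⁻¹ᵁ B : Scheme.{u}) := h
  haveI : Surjective (f ∣_ B) := IsZariskiLocalAtTarget.restrict (P := @Surjective) (f := f) ‹_› B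
  exact GrothLib.Affine25.isAffine_of_surjective_universallyClosed (f ∣_ B)

/-- Over an affine open, a function vanishing where the morphism is not an isomorphism has a power coming
from below. -/
theorem exists_pow_mem_range {U : X.Opens} [IsIso (f ∣_ U)] {B : X.Opens} (hB : IsAffineOpen B)
    (β : Γ(X', f ⁻¹ᵁ B)) (hβ : X'.basicOpen β ≤ f ⁻¹ᵁ U) :
    ∃ (K : ℕ) (α : Γ(X, B)), 0 < K ∧ f.app B α = β ^ K := by
  classical
  have hB' : IsAffineOpen (f ⁻¹ᵁ B) := hB.preimage f
  let φ : Γ(X, B) →+* Γ(X', f ⁻¹ᵁ B) := (f.app B).hom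
  let S : Set Γ(X, B) := {g | X.basicOpen g ≤ U}
  have hpt : ∀ g ∈ S, ∀ b : Γ(X', f ⁻¹ᵁ B), ∃ N : ℕ, φ g ^ N * b ∈ Set.range φ := by
    intro g hg b
    have hle : X.basicOpen g ≤ B := X.basicOpen_le g
    obtain ⟨a', ha'⟩ := (bijective_app f hg).2 (res (f.preimage_mono hle) b)
    haveI := hB.isLocalization_basicOpen g
    obtain ⟨n, a, ha⟩ := IsLocalization.Away.surj g a'
    have h1 : res (f.preimage_mono hle) (φ a - φ g ^ n * b) = 0 := by
      rw [map_sub, map_mul, map_pow, sub_eq_zero]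
      have e : ∀ x : Γ(X, B), res (f.preimage_mono hle) (φ x) = f.app _ (res hle x) := fun x =>
        (ConcreteCategory.congr_hom (f.naturality (homOfLE hle).op) x).symm
      rw [e, e, ← ha', ← map_pow, ← map_mul]
      refine congrArg _ (ha.symm.trans ?_)
      rw [mul_comm]
      rfl
    have hbo : X'.basicOpen (φ g) ≤ f ⁻¹ᵁ X.basicOpen g := (f.preimage_basicOpen g).ge
    have h2 : (φ a - φ g ^ n * b) |_ (X'.basicOpen (φ g)) = 0 := by
      have := congrArg (res hbo) h1
      rw [res_res, map_zero] at this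
      exact this
    obtain ⟨m, hm⟩ := exists_pow_mul_eq_zero_of_res_basicOpen_eq_zero_of_isCompact X' hB'.isCompact _ _ h2
    refine ⟨m + n, g ^ m * a, ?_⟩
    rw [map_mul, map_pow, pow_add, mul_assoc]
    rw [mul_sub, sub_eq_zero] at hm
    exact hm
  letI := φ.toAlgebra
  haveI : Module.Finite Γ(X, B) Γ(X', f ⁻¹ᵁ B) := f.finite_app B hB
  obtain ⟨s, hs⟩ := Module.Finite.fg_top (R := Γ(X, B)) (M := Γ(X', f ⁻¹ᵁ B))
  have hall : ∀ g ∈ S, ∃ N : ℕ, ∀ b, φ g ^ N * b ∈ Set.range φ := by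
    intro g hg
    choose N hN using hpt g hg
    refine ⟨s.sup N, fun b => ?_⟩
    have hb : b ∈ Submodule.span Γ(X, B) (s : Set Γ(X', f ⁻¹ᵁ B)) := hs ▸ Submodule.mem_top
    induction hb using Submodule.span_induction with
    | mem x hx =>
      obtain ⟨a, ha⟩ := hN x
      obtain ⟨d, hd⟩ := Nat.exists_eq_add_of_le (Finset.le_sup hx (f := N))
      exact ⟨g ^ d * a, by rw [hd, map_mul, map_pow, ha, pow_add, ← mul_assoc, mul_comm (φ g ^ d)]⟩
    | zero => exact ⟨0, by rw [mul_zero, map_zero]⟩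
    | add x y _ _ hx hy =>
      obtain ⟨a, ha⟩ := hx
      obtain ⟨a', ha'⟩ := hy
      exact ⟨a + a', by rw [map_add, ha, ha', mul_add]⟩
    | smul r x _ hx =>
      obtain ⟨a, ha⟩ := hx
      exact ⟨r * a, by rw [map_mul, ha, Algebra.smul_def]; exact mul_left_comm _ _ _⟩
  choose N hN using hall
  let J : Ideal Γ(X', f ⁻¹ᵁ B) := Ideal.span (Set.range fun g : S => φ (g : Γ(X, B)) ^ (N g g.2 + 1))
  have hJ : ∀ x ∈ J, ∀ b, x * b ∈ Set.range φ := by
    intro x hx
    induction hx using Submodule.span_induction with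
    | mem x hx =>
      obtain ⟨⟨g, hg⟩, rfl⟩ := hx
      intro b
      obtain ⟨a, ha⟩ := hN g hg (φ g * b)
      exact ⟨a, ha.trans (by show _ = φ g ^ (N g hg + 1) * b; rw [pow_succ, mul_assoc])⟩
    | zero => intro b; exact ⟨0, by rw [zero_mul, map_zero]⟩
    | add x y _ _ hx hy =>
      intro b
      obtain ⟨a, ha⟩ := hx b
      obtain ⟨a', ha'⟩ := hy b
      exact ⟨a + a', by rw [map_add, ha, ha', add_mul]⟩
    | smul r x _ hx =>
      intro b
      obtain ⟨a, ha⟩ := hx (r * b)
      exact ⟨a, by rw [ha, smul_eq_mul]; ring⟩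
  have hrad : β ∈ J.radical := by
    rw [Ideal.radical_eq_sInf, Ideal.mem_sInf]
    rintro p ⟨hJp, hp⟩
    by_contra hβp
    let P : PrimeSpectrum Γ(X', f ⁻¹ᵁ B) := ⟨p, hp⟩
    let z := hB'.fromSpec P
    have hz : z ∈ X'.basicOpen β := by
      have : P ∈ hB'.fromSpec ⁻¹ᵁ X'.basicOpen β := by
        rw [hB'.fromSpec_preimage_basicOpen]; exact hβp
      exact this
    have hzB : f z ∈ B := X'.basicOpen_le β hz
    obtain ⟨g, hgU, hgz⟩ := hB.exists_basicOpen_le (V := U) ⟨f z, hβ hz⟩ hzB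
    have hzg : z ∈ X'.basicOpen (φ g) := (f.preimage_basicOpen g).le hgz
    have hPg : P ∈ hB'.fromSpec ⁻¹ᵁ X'.basicOpen (φ g) := hzg
    rw [hB'.fromSpec_preimage_basicOpen] at hPg
    exact hPg (hp.mem_of_pow_mem _ (hJp (Ideal.subset_span ⟨⟨g, hgU⟩, rfl⟩)))
  obtain ⟨K, hK⟩ := hrad
  obtain ⟨α, hα⟩ := hJ _ hK β
  exact ⟨K + 1, α, K.succ_pos, by rw [pow_succ]; exact hα⟩

/-- **Descent of an ample line bundle along a finite birational morphism.** -/
theorem exists_ample_descent [CompactSpace X] (U : X.Opens) [IsIso (f ∣_ U)] (c : Cocycle X') {N : ℕ}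
    (hc : CohB1.IsAmple (c.twist N)) (s : c.sect N ⊤) (hs : IsAffineOpen (c.locus s))
    (hY : ∀ z, f z ∉ U → z ∈ c.locus s) :
    ∃ L : X.Modules, CohB1.IsAmple L ∧ Nonempty ((Scheme.Modules.pullback f).obj L ≅ c.twist N) := by
  classical
  let B : X.Opens := img f (c.locus s)
  have hB : f ⁻¹ᵁ B = c.locus s := preimage_img f fun z z' hz e => by
    by_cases h : f z' ∈ U
    · rwa [eq_of_map_eq f h e.symm]
    · exact hY z' h
  have hBa : IsAffineOpen B := isAffineOpen_of_preimage f (hB ▸ hs)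
  -- the pieces downstairs
  let D : Option c.ι → X.Opens := fun p => p.elim B fun j => img f (c.D j ⊓ f ⁻¹ᵁ U)
  have hDj : ∀ j, f ⁻¹ᵁ D (some j) = c.D j ⊓ f ⁻¹ᵁ U := fun j => preimage_img f fun z z' hz e => by
    rwa [← eq_of_map_eq f hz.2 e]
  have hDU : ∀ j, D (some j) ≤ U := fun j x hx => by
    obtain ⟨z, rfl⟩ := f.surjective x
    exact ((hDj j).le hx).2
  have hDs : ∀ j, f ⁻¹ᵁ D (some j) ≤ c.D j := fun j => (hDj j).le.trans inf_le_left
  have hDn : f ⁻¹ᵁ D none ≤ c.locus s := hB.le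
  have hcov : ⨆ p, D p = ⊤ := eq_top_iff.2 fun x _ => by
    obtain ⟨z, rfl⟩ := f.surjective x
    by_cases h : f z ∈ U
    · obtain ⟨j, hj⟩ := c.exists_mem z
      exact Opens.mem_iSup.2 ⟨some j, (hDj j).ge ⟨hj, h⟩⟩
    · exact Opens.mem_iSup.2 ⟨none, hB.ge (hY z h)⟩
  have hcov' : ⨆ p, f ⁻¹ᵁ D p = ⊤ := by rw [← Scheme.Hom.preimage_iSup, hcov, Scheme.Hom.preimage_top]
  -- generators of the twist upstairs
  let M := c.twist N
  have hgs : IsGen M (c.locus s) (c.sectRes le_top s) := by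
    intro W h
    have e : ((c.hom s).val.app (op W) : Γ(X', W) → c.sect N W) =
        fun r : Γ(X', W) => r • mres M h (c.sectRes le_top s) := by
      funext r
      rw [c.mres_twist, c.sectRes_sectRes]
      exact c.hom_app_apply s W r
    exact e ▸ c.bijective_hom_app s h
  let e : ∀ p, Γ(M, f ⁻¹ᵁ D p) := fun p => match p with
    | none => c.sectRes (le_top : f ⁻¹ᵁ D none ≤ ⊤) s
    | some j => c.base N j (hDs j)
  have he : ∀ p, IsGen M (f ⁻¹ᵁ D p) (e p) := fun p => match p with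
    | none => by
      have := hgs.restrict hDn
      rw [c.mres_twist, c.sectRes_sectRes] at this
      exact this
    | some j => c.isGen_base N j (hDs j)
  choose γ hγ using fun p q : Option c.ι => (he p).exists_smul_eq
    (inf_le_left : f ⁻¹ᵁ D p ⊓ f ⁻¹ᵁ D q ≤ f ⁻¹ᵁ D p) (mres M inf_le_right (e q))
  have hres : ∀ (p q) (W : X'.Opens) (hp : W ≤ f ⁻¹ᵁ D p) (hq : W ≤ f ⁻¹ᵁ D q),
      mres M hq (e q) = res (le_inf hp hq) (γ p q) • mres M hp (e p) := by
    intro p q W hp hq
    have := congrArg (mres M (le_inf hp hq)) (hγ p q)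
    rwa [InvExt.mres_mres, mres_smul', InvExt.mres_mres] at this
  -- their descent
  have hdesc : ∀ p q, ∃ r : Γ(X, D p ⊓ D q),
      (f.appLE (D p ⊓ D q) (f ⁻¹ᵁ D p ⊓ f ⁻¹ᵁ D q) le_rfl).hom r = γ p q ∧ (p = none → q = none → r = 1) := by
    intro p q
    have key : p ≠ none ∨ q ≠ none → D p ⊓ D q ≤ U := by
      rintro (h | h) <;> obtain ⟨j, rfl⟩ := Option.ne_none_iff_exists'.1 h
      · exact inf_le_left.trans (hDU j)
      · exact inf_le_right.trans (hDU j)
    by_cases h : p ≠ none ∨ q ≠ none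
    · obtain ⟨r, hr⟩ := (bijective_appLE f (key h) (V := f ⁻¹ᵁ D p ⊓ f ⁻¹ᵁ D q) rfl).2 (γ p q)
      refine ⟨r, hr, fun hp hq => ?_⟩
      · exact (h.elim (fun h => h hp) fun h => h hq).elim
    · push Not at h
      obtain ⟨rfl, rfl⟩ := h
      refine ⟨1, ?_, fun _ _ => rfl⟩
      rw [map_one]
      have h1 := hres none none (f ⁻¹ᵁ D none ⊓ f ⁻¹ᵁ D none) inf_le_left inf_le_right
      rw [res_self] at h1
      exact (he none).smul_left_injective inf_le_left (by rw [one_smul]; exact h1)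
  choose r hr hr1 using hdesc
  have hrG : ∀ (p q) {W : X.Opens} (hp : W ≤ D p) (hq : W ≤ D q) {W' : X'.Opens} (e' : W' ≤ f ⁻¹ᵁ W),
      (f.appLE W W' e').hom (res (le_inf hp hq) (r p q)) =
        res (le_inf (e'.trans (f.preimage_mono hp)) (e'.trans (f.preimage_mono hq))) (γ p q) := by
    intro p q W hp hq W' e'
    rw [← hr p q, res_appLE, appLE_res]
  have hinj : ∀ {W : X.Opens}, W ≤ U → Function.Injective (f.appLE W (f ⁻¹ᵁ W) le_rfl).hom := fun {W} hW => by
    rw [← Scheme.Hom.app_eq_appLE]; exact (bijective_app f hW).1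
  let d : Cocycle X :=
    { ι := Option c.ι
      D := D
      g := r
      cover := hcov
      self := fun p W h => by
        rcases p with _ | j
        · rw [hr1 none none rfl rfl, map_one]
        · refine hinj (h.trans (hDU j)) ?_
          rw [hrG _ _ h h le_rfl, map_one]
          exact (he _).smul_left_injective (f.preimage_mono h) (by rw [one_smul]; exact (hres _ _ _ _ _).symm)
      change := fun p q l W hp hq hl => by
        by_cases hW : W ≤ U
        · refine hinj hW ?_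
          rw [map_mul, hrG _ _ hp hl le_rfl, hrG _ _ hp hq le_rfl, hrG _ _ hq hl le_rfl]
          refine (he p).smul_left_injective (f.preimage_mono hp) ?_
          rw [← hres p l _ (f.preimage_mono hp) (f.preimage_mono hl),
            hres q l _ (f.preimage_mono hq) (f.preimage_mono hl),
            hres p q _ (f.preimage_mono hp) (f.preimage_mono hq), smul_smul, mul_comm]
        · obtain rfl : p = none := by
            by_contra h; obtain ⟨j, rfl⟩ := Option.ne_none_iff_exists'.1 h; exact hW (hp.trans (hDU j))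
          obtain rfl : q = none := by
            by_contra h; obtain ⟨j, rfl⟩ := Option.ne_none_iff_exists'.1 h; exact hW (hq.trans (hDU j))
          obtain rfl : l = none := by
            by_contra h; obtain ⟨j, rfl⟩ := Option.ne_none_iff_exists'.1 h; exact hW (hl.trans (hDU j))
          rw [hr1 none none rfl rfl, map_one, mul_one] }
  let c₂ := d.comap f
  have hm : c₂.IsFamily 1 (M := M) e := fun p q W hp hq => by
    rw [pow_one, d.comap_G f]
    show mres M hq (e q) = (f.appLE (D p ⊓ D q) W (le_inf hp hq)).hom (r p q) • _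
    rw [← res_appLE f (le_inf hp hq : W ≤ f ⁻¹ᵁ D p ⊓ f ⁻¹ᵁ D q) (le_rfl), hr p q]
    exact hres p q W hp hq
  haveI := c₂.isIso_homOfFamily hm he
  let φ : c₂.twist 1 ≅ M := asIso (c₂.homOfFamily hm)
  obtain ⟨ψ⟩ := d.nonempty_pullback_iso f (Iso.refl (d.twist 1))
  refine ⟨d.twist 1, (d.isAmple_iff (Iso.refl _)).2 ⟨inferInstance, fun x => ?_⟩, ⟨ψ ≪≫ φ⟩⟩
  have hc₂ : c₂.IsAmp := ((c₂.isAmple_iff (Iso.refl _)).1 ((isAmple_iff_of_iso φ).2 hc)).2
  haveI : CompactSpace X' := QuasiCompact.compactSpace_of_compactSpace f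
  -- sections whose component near the bad set comes from below descend
  have desc : ∀ {m : ℕ} (σ : c₂.sect (m + 1) ⊤) (α : Γ(X, ⊤ ⊓ B)),
      (f.appLE (⊤ ⊓ B) (⊤ ⊓ f ⁻¹ᵁ B) le_rfl).hom α = σ.1 none →
      ∃ t : d.sect (m + 1) ⊤, f ⁻¹ᵁ d.locus t = c₂.locus σ := by
    intro m σ α hα
    choose a ha using fun j => (bijective_app f (W := ⊤ ⊓ D (some j)) (inf_le_right.trans (hDU j))).2 (σ.1 (some j))
    let comp : ∀ p, Γ(X, ⊤ ⊓ D p) := fun p => match p with
      | none => α
      | some j => a j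
    have hcomp : ∀ p, (f.appLE (⊤ ⊓ D p) (⊤ ⊓ f ⁻¹ᵁ D p) le_rfl).hom (comp p) = σ.1 p := fun p => by
      rcases p with _ | j
      · exact hα
      · have := ha j
        rw [Scheme.Hom.app_eq_appLE] at this
        exact this
    have hmem : comp ∈ d.sect (m + 1) ⊤ := by
      intro p q W hp hq
      by_cases hW : W ≤ U
      · refine hinj hW ?_
        rw [map_mul, map_pow, d.appLE_G f, appLE_res, appLE_res]
        have h := c₂.sect_spec σ p q (W := f ⁻¹ᵁ W) (f.preimage_mono hp) (f.preimage_mono hq)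
        rw [← hcomp p, ← hcomp q] at h
        erw [res_appLE, res_appLE] at h
        exact h
      · obtain rfl : p = none := by
          by_contra h; obtain ⟨j, rfl⟩ := Option.ne_none_iff_exists'.1 h
          exact hW (hp.trans (inf_le_right.trans (hDU j)))
        obtain rfl : q = none := by
          by_contra h; obtain ⟨j, rfl⟩ := Option.ne_none_iff_exists'.1 h
          exact hW (hq.trans (inf_le_right.trans (hDU j)))
        rw [d.G_self, one_pow, one_mul]
    refine ⟨⟨comp, hmem⟩, ?_⟩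
    rw [← d.locus_pullSect f]
    refine congrArg c₂.locus (c₂.sect_ext fun p => ?_)
    exact hcomp p
  obtain ⟨z, rfl⟩ := f.surjective x
  by_cases hz : z ∈ c.locus s
  · -- near the bad set: the section itself
    obtain ⟨(σ : c₂.sect 1 ⊤), hσ⟩ := (ConcreteCategory.bijective_of_isIso (φ.hom.app ⊤)).2 s
    have hfam : c₂.famApp hm σ = s := hσ
    have hσn : σ.1 none = 1 := by
      refine (he none).smul_left_injective (inf_le_right : ⊤ ⊓ f ⁻¹ᵁ D none ≤ _) ?_
      have h1 := c₂.mres_famApp hm σ none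
      rw [hfam] at h1
      refine h1.symm.trans ?_
      rw [one_smul]
      exact (c.sectRes_sectRes (le_top : f ⁻¹ᵁ D none ≤ ⊤)
        (inf_le_right : ⊤ ⊓ f ⁻¹ᵁ D none ≤ f ⁻¹ᵁ D none) s).symm
    have hσl : c₂.locus σ = c.locus s := by
      refine le_antisymm (fun q hq => ?_) fun q hq => ?_
      · by_contra hqs
        have hqU : f q ∈ U := not_not.1 fun h => hqs (hY q h)
        obtain ⟨j, hj⟩ := c.exists_mem q
        have hqj : q ∈ f ⁻¹ᵁ D (some j) := (hDj j).ge ⟨hj, hqU⟩
        have h1 := c₂.mres_famApp hm σ (some j)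
        rw [hfam] at h1
        have h2 : res (inf_le_inf_left ⊤ (hDs j) : ⊤ ⊓ f ⁻¹ᵁ D (some j) ≤ ⊤ ⊓ c.D j) (s.1 j) = σ.1 (some j) := by
          have h3 := congrArg (fun t : c.sect N (⊤ ⊓ f ⁻¹ᵁ D (some j)) =>
            res (le_inf le_rfl (inf_le_right.trans (hDs j)) : ⊤ ⊓ f ⁻¹ᵁ D (some j) ≤ _) (t.1 j)) h1
          change res _ (res _ (s.1 j)) = res _ (res _ (σ.1 (some j)) *
            res _ ((c.base N j (hDs j)).1 j)) at h3
          rw [res_res, c.base_self, map_one, mul_one] at h3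
          erw [res_res, res_self] at h3
          exact h3
        have hq' := (c₂.mem_locus_iff σ (i := some j) hqj).1 hq
        rw [← h2] at hq'
        erw [Scheme.basicOpen_res] at hq'
        exact hqs ((c.mem_locus_iff s hj).2 hq'.2)
      · have hqn : q ∈ f ⁻¹ᵁ D none := hB.ge hq
        rw [c₂.mem_locus_iff σ (i := none) hqn, hσn, Scheme.basicOpen_of_isUnit _ isUnit_one]
        exact ⟨trivial, hqn⟩
    obtain ⟨t, ht⟩ := desc (m := 0) σ 1 (by rw [map_one, hσn])
    have htB : d.locus t = B := opens_ext f (by rw [ht, hσl, hB])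
    exact ⟨0, t, by rw [htB]; exact hB.ge hz, by rw [htB]; exact hBa⟩
  · -- away from it: sections vanishing to high order
    have hzU : z ∈ f ⁻¹ᵁ U := not_not.1 fun h => hz (hY z h)
    obtain ⟨m, σ, hzσ, hσU, hσa⟩ := c₂.exists_affine_locus_le hc₂ hzU
    have e₁ : f ⁻¹ᵁ (⊤ ⊓ B) = ⊤ ⊓ f ⁻¹ᵁ B := rfl
    obtain ⟨K, α, hK, hα⟩ := exists_pow_mem_range f (U := U) (B := ⊤ ⊓ B) (by rw [top_inf_eq]; exact hBa)
      (σ.1 none) (by
        intro q hq
        exact hσU ((c₂.mem_locus_iff σ (i := none) ((X'.basicOpen_le (σ.1 none) hq).2)).2 hq))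
    obtain ⟨l, hl⟩ : ∃ l, (m + 1) * K = l + 1 := ⟨(m + 1) * K - 1,
      (Nat.sub_add_cancel (Nat.mul_pos m.succ_pos hK)).symm⟩
    obtain ⟨t, ht⟩ := desc (c₂.sectCast hl (c₂.sectPow σ K)) α (by
      rw [c₂.sectCast_apply, c₂.sectPow_apply]
      change (f.appLE (⊤ ⊓ B) (f ⁻¹ᵁ (⊤ ⊓ B)) le_rfl).hom α = _
      rw [← Scheme.Hom.app_eq_appLE]
      exact hα)
    rw [c₂.locus_sectCast, c₂.locus_sectPow σ hK] at ht
    refine ⟨l, t, ?_, isAffineOpen_of_preimage f (ht ▸ hσa)⟩
    exact ht.ge hzσ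

end GrothLib.FinBir24
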