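import Groth.Agent.Lib.OX.ExtZeroOpen
import Groth.Agent.Lib.OX.RpushCoprod
import Groth.Agent.Lib.OX.RRLocal
import Groth.Agent.Lib.OX.SingleDegree
import Groth.Agent.Lib.OX.TildeBaseChange
import Groth.Agent.Lib.OX.TildePerfect
import Groth.Agent.Lib.OX.AffineHomotopy
import Groth.Agent.Lib.CohGab9.Basic
import Groth.Agent.Lib.LeffAmp7.Stalks
import Groth.Agent.Lib.Hensel.Properties
import Groth.Agent.Lib.Hensel.ProjectiveLift
import Groth.Agent.Lib.QCoh.TildeFinite
import Groth.Agent.Lib.Nagata6.UnionData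

/-!
# Lifting vector bundles along nilimmersions, glued outside an open where nothing changes
-/

set_option autoImplicit false
set_option backward.isDefEq.respectTransparency false
set_option backward.isDefEq.respectTransparency.types false
set_option maxHeartbeats 1000000
set_option linter.style.haveILetI false

universe u

open CategoryTheory CategoryTheory.Limits AlgebraicGeometry Opposite TopologicalSpace

noncomputable section

namespace GrothLib.NilGlue24

open OX

section Glue

variable {X : Scheme.{u}}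

local notation "R[" U "]" => Scheme.Modules.restrictFunctor (Scheme.Opens.ι U)

/-- The module is zero on the stalks off `U`. -/
def ZeroOff (M : X.Modules) (U : X.Opens) : Prop := ∀ x, x ∉ U → IsZero ((stalk x).obj M)

theorem zeroOff_extZero (T : X.Opens) (N : (T : Scheme.{u}).Modules) :
    ZeroOff ((CxOX.extZero T.ι).obj N) T := fun x hx =>
  isZero_stalk_extZero T.ι N x (by rw [Scheme.Opens.range_ι]; exact hx)

theorem ZeroOff.mono {M : X.Modules} {U U' : X.Opens} (h : ZeroOff M U) (hU : U ≤ U') : ZeroOff M U' :=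
  fun x hx => h x fun hx' => hx (hU hx')

theorem isIso_restrict_mono {M N : X.Modules} (h : M ⟶ N) {U U' : X.Opens} (hle : U' ≤ U)
    (hh : IsIso (R[U].map h)) : IsIso (R[U'].map h) := by
  rw [CohGab9.isIso_restrict_iff_support] at hh ⊢
  exact ⟨hh.1.trans (Set.compl_subset_compl.2 hle), hh.2.trans (Set.compl_subset_compl.2 hle)⟩

theorem subsingleton_of_notMem {M : X.Modules} {x : X} (h : x ∉ CohB1.support M) : IsZero ((stalk x).obj M) :=
  @ModuleCat.isZero_of_subsingleton _ _ _ (not_not.1 h)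

/-- A map which is an iso on `U ⊓ T` between modules vanishing off `T` is an iso on `U`. -/
theorem isIso_restrict_of_zeroOff {M N : X.Modules} (h : M ⟶ N) {U T : X.Opens} (hM : ZeroOff M T)
    (hN : ZeroOff N T) (hh : IsIso (R[U ⊓ T].map h)) : IsIso (R[U].map h) := by
  rw [CohGab9.isIso_restrict_iff_support] at hh ⊢
  refine ⟨fun x hx hxU => ?_, fun x hx hxU => ?_⟩
  · by_cases hxT : x ∈ T
    · exact hh.1 hx ⟨hxU, hxT⟩
    · exact hx (ModuleCat.subsingleton_of_isZero (IsZero.of_mono ((stalk x).map (kernel.ι h)) (hM x hxT)))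
  · by_cases hxT : x ∈ T
    · exact hh.2 hx ⟨hxU, hxT⟩
    · exact hx (ModuleCat.subsingleton_of_isZero (IsZero.of_epi ((stalk x).map (cokernel.π h)) (hN x hxT)))

/-- A split summand complementary to the image of `m` maps isomorphically to the cokernel. -/
theorem isIso_map_summand {C D : Type*} [Category C] [Abelian C] [Category D] [Abelian D] (F : C ⥤ D)
    [F.Additive] [PreservesFiniteColimits F] {P A M : C} (m : P ⟶ M) (j : A ⟶ M) (pr : F.obj M ⟶ F.obj A)
    (t : F.obj M ⟶ F.obj P) (h1 : F.map j ≫ pr = 𝟙 _) (h2 : F.map m ≫ pr = 0)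
    (h3 : pr ≫ F.map j + t ≫ F.map m = 𝟙 _) : IsIso (F.map (j ≫ cokernel.π m)) := by
  have hc := isColimitOfHasCokernelOfPreservesColimit F m
  obtain ⟨ρ, hρ⟩ := CokernelCofork.IsColimit.desc' hc pr h2
  have hρ' : F.map (cokernel.π m) ≫ ρ = pr := hρ
  have hm : F.map m ≫ F.map (cokernel.π m) = 0 := by rw [← F.map_comp, cokernel.condition, F.map_zero]
  refine ⟨ρ, by rw [F.map_comp, Category.assoc, hρ', h1], ?_⟩
  rw [← cancel_epi (F.map (cokernel.π m)), reassoc_of% hρ', Category.comp_id, F.map_comp]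
  conv_rhs => rw [← Category.id_comp (F.map (cokernel.π m)), ← h3, Preadditive.add_comp, Category.assoc,
    Category.assoc, hm, comp_zero, add_zero]

theorem map_lift_neg {C D : Type*} [Category C] [Abelian C] [Category D] [Preadditive D] (F : C ⥤ D)
    [F.Additive] {P A B : C} (α : P ⟶ A) (β : P ⟶ B) :
    F.map (biprod.lift α (-β)) = F.map α ≫ F.map biprod.inl - F.map β ≫ F.map biprod.inr := by
  rw [biprod.lift_eq, F.map_add, Preadditive.neg_comp, F.map_neg, F.map_comp, F.map_comp, sub_eq_add_neg]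

theorem map_biprod_total {C D : Type*} [Category C] [Abelian C] [Category D] [Preadditive D] (F : C ⥤ D)
    [F.Additive] (A B : C) :
    F.map (biprod.fst : A ⊞ B ⟶ A) ≫ F.map biprod.inl + F.map (biprod.snd : A ⊞ B ⟶ B) ≫ F.map biprod.inr =
      𝟙 (F.obj (A ⊞ B)) := by
  rw [← F.map_comp, ← F.map_comp, ← F.map_add, biprod.total, CategoryTheory.Functor.map_id]

/-- In the cokernel of `(α, -β)` the first summand maps isomorphically as soon as `β` is invertible. -/
theorem isIso_map_inl_cokernel {C D : Type*} [Category C] [Abelian C] [Category D] [Abelian D] (F : C ⥤ D)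
    [F.Additive] [PreservesFiniteColimits F] {P A B : C} (α : P ⟶ A) (β : P ⟶ B) (hβ : IsIso (F.map β)) :
    IsIso (F.map (biprod.inl ≫ cokernel.π (biprod.lift α (-β)))) := by
  refine isIso_map_summand F _ _ (F.map biprod.fst + F.map biprod.snd ≫ inv (F.map β) ≫ F.map α)
    (-(F.map biprod.snd ≫ inv (F.map β))) ?_ ?_ ?_
  · rw [Preadditive.comp_add, ← F.map_comp, ← F.map_comp_assoc, biprod.inl_fst, biprod.inl_snd, F.map_zero,
      zero_comp, add_zero, CategoryTheory.Functor.map_id]
  · rw [Preadditive.comp_add, ← F.map_comp, ← F.map_comp_assoc, biprod.lift_fst, biprod.lift_snd, F.map_neg,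
      Preadditive.neg_comp, IsIso.hom_inv_id_assoc, add_neg_cancel]
  · rw [map_lift_neg F α β, ← map_biprod_total F A B]
    simp only [Preadditive.add_comp, Preadditive.neg_comp, Preadditive.comp_sub, Category.assoc,
      IsIso.inv_hom_id_assoc]
    abel

theorem isIso_map_inr_cokernel {C D : Type*} [Category C] [Abelian C] [Category D] [Abelian D] (F : C ⥤ D)
    [F.Additive] [PreservesFiniteColimits F] {P A B : C} (α : P ⟶ A) (β : P ⟶ B) (hα : IsIso (F.map α)) :
    IsIso (F.map (biprod.inr ≫ cokernel.π (biprod.lift α (-β)))) := by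
  refine isIso_map_summand F _ _ (F.map biprod.snd + F.map biprod.fst ≫ inv (F.map α) ≫ F.map β)
    (F.map biprod.fst ≫ inv (F.map α)) ?_ ?_ ?_
  · rw [Preadditive.comp_add, ← F.map_comp, ← F.map_comp_assoc, biprod.inr_snd, biprod.inr_fst, F.map_zero,
      zero_comp, add_zero, CategoryTheory.Functor.map_id]
  · rw [Preadditive.comp_add, ← F.map_comp, ← F.map_comp_assoc, biprod.lift_fst, biprod.lift_snd, F.map_neg,
      IsIso.hom_inv_id_assoc, neg_add_cancel]
  · rw [map_lift_neg F α β, ← map_biprod_total F A B]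
    simp only [Preadditive.add_comp, Preadditive.comp_sub, Category.assoc, IsIso.inv_hom_id_assoc]
    abel

variable {Q : X.Modules}

/-- The data over a finite union. -/
structure Glued {ι : Type*} (Q : X.Modules) (W : X.Opens) (T : ι → X.Opens) (G : ι → X.Modules)
    (g : ∀ i, G i ⟶ Q) (s : Finset ι) where
  K : X.Modules
  u : K ⟶ Q
  zeroOff : ZeroOff K (W ⊔ s.sup T)
  isIso_u : IsIso (R[W].map u)
  compare : ∀ i ∈ s, ∃ a : G i ⟶ K, a ≫ u = g i ∧ IsIso (R[T i].map a)

/-- **Gluing maps to `Q` which are isomorphisms on the overlaps.** -/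
theorem nonempty_glued {ι : Type*} (Q : X.Modules) (W : X.Opens) (T : ι → X.Opens) (G : ι → X.Modules)
    (g : ∀ i, G i ⟶ Q) (hG : ∀ i, ZeroOff (G i) (T i)) (hg : ∀ i, IsIso (R[W ⊓ T i].map (g i)))
    (hT : ∀ i j, i ≠ j → T i ⊓ T j ≤ W) (s : Finset ι) : Nonempty (Glued Q W T G g s) := by
  classical
  induction s using Finset.induction with
  | empty =>
    exact ⟨⟨_, epsZ W.ι Q, (zeroOff_extZero W _).mono le_sup_left, isIso_restrict_epsZ W.ι Q,
      fun i hi => absurd hi (Finset.notMem_empty i)⟩⟩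
  | @insert i s his ih =>
    obtain ⟨K, u, hz, hu, hcmp⟩ := ih
    let U : X.Opens := W ⊔ s.sup T
    let O : X.Opens := U ⊓ T i
    have hOW : O ≤ W := by
      rintro x ⟨hxU, hxT⟩
      rcases hxU with hxW | hxs
      · exact hxW
      · rw [Finset.sup_eq_iSup] at hxs
        obtain ⟨j, hxj⟩ := Opens.mem_iSup.1 hxs
        obtain ⟨hjs, hxj⟩ := Opens.mem_iSup.1 hxj
        exact hT i j (fun hij => his (hij ▸ hjs)) ⟨hxT, hxj⟩
    haveI hOu : IsIso (R[O].map u) := isIso_restrict_mono u hOW hu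
    haveI hOg : IsIso (R[O].map (g i)) := isIso_restrict_mono (g i) (le_inf hOW inf_le_right) (hg i)
    let P := (CxOX.extZero O.ι).obj (R[O].obj Q)
    let α : P ⟶ K := ((CxOX.extZeroAdj O.ι).homEquiv _ _).symm (inv (R[O].map u))
    let β : P ⟶ G i := ((CxOX.extZeroAdj O.ι).homEquiv _ _).symm (inv (R[O].map (g i)))
    have hαu : α ≫ u = epsZ O.ι Q := by
      rw [← (CxOX.extZeroAdj O.ι).homEquiv_naturality_right_symm, IsIso.inv_hom_id, Adjunction.homEquiv_counit,
        CategoryTheory.Functor.map_id, Category.id_comp]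
    have hβg : β ≫ g i = epsZ O.ι Q := by
      rw [← (CxOX.extZeroAdj O.ι).homEquiv_naturality_right_symm, IsIso.inv_hom_id, Adjunction.homEquiv_counit,
        CategoryTheory.Functor.map_id, Category.id_comp]
    have hαO : IsIso (R[O].map α) := by
      haveI := isIso_restrict_epsZ O.ι Q
      exact IsIso.of_isIso_fac_right ((R[O].map_comp α u).symm.trans (congrArg R[O].map hαu))
    have hβO : IsIso (R[O].map β) := by
      haveI := isIso_restrict_epsZ O.ι Q
      exact IsIso.of_isIso_fac_right ((R[O].map_comp β (g i)).symm.trans (congrArg R[O].map hβg))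
    let m : P ⟶ K ⊞ G i := biprod.lift α (-β)
    have hm : m ≫ biprod.desc u (g i) = 0 := by
      simp [m, biprod.lift_desc, hαu, hβg]
    let a : K ⟶ cokernel m := biprod.inl ≫ cokernel.π m
    let b : G i ⟶ cokernel m := biprod.inr ≫ cokernel.π m
    have haU : IsIso (R[U].map a) :=
      isIso_map_inl_cokernel R[U] α β
        (isIso_restrict_of_zeroOff β ((zeroOff_extZero O _).mono inf_le_right) (hG i) hβO)
    have hbT : IsIso (R[T i].map b) :=
      isIso_map_inr_cokernel R[T i] α β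
        (isIso_restrict_of_zeroOff α ((zeroOff_extZero O _).mono inf_le_left) hz
          (isIso_restrict_mono α (le_of_eq (inf_comm (T i) U)) hαO))
    have hau : a ≫ cokernel.desc m (biprod.desc u (g i)) hm = u := by simp [a]
    have hbu : b ≫ cokernel.desc m (biprod.desc u (g i)) hm = g i := by simp [b]
    refine ⟨⟨cokernel m, cokernel.desc m (biprod.desc u (g i)) hm, ?_, ?_, ?_⟩⟩
    · intro x hx
      rw [Finset.sup_insert] at hx
      have h1 : x ∉ U := fun h => hx (h.elim (fun h => Or.inl h) fun h => Or.inr (Or.inr h))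
      have h2 : x ∉ T i := fun h => hx (Or.inr (Or.inl h))
      refine IsZero.of_epi_eq_zero ((stalk x).map (cokernel.π m)) ?_
      have : cokernel.π m = biprod.fst ≫ a + biprod.snd ≫ b := by
        simp only [a, b, ← Category.assoc, ← Preadditive.add_comp, biprod.total, Category.id_comp]
      rw [this, Functor.map_add, (stalk x).map_comp biprod.fst a, (stalk x).map_comp biprod.snd b,
        (hz x h1).eq_of_src ((stalk x).map a) 0, (hG i x h2).eq_of_src ((stalk x).map b) 0, comp_zero, comp_zero,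
        add_zero]
    · haveI := isIso_restrict_mono a (le_sup_left : W ≤ U) haU
      haveI := hu
      exact IsIso.of_isIso_fac_left ((R[W].map_comp a _).symm.trans (congrArg R[W].map hau))
    · intro j hj
      rcases Finset.mem_insert.1 hj with rfl | hjs
      · exact ⟨b, hbu, hbT⟩
      · obtain ⟨c, hc, hcT⟩ := hcmp j hjs
        refine ⟨c ≫ a, by rw [Category.assoc, hau, hc], ?_⟩
        haveI := hcT
        haveI := isIso_restrict_mono a ((Finset.le_sup hjs).trans le_sup_right : T j ≤ U) haU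
        rw [R[T j].map_comp]
        exact IsIso.comp_isIso

end Glue

section Lift

variable {X X' : Scheme.{u}} (f : X' ⟶ X)

local notation "R[" U "]" => Scheme.Modules.restrictFunctor (Scheme.Opens.ι U)

/-- Pullback commutes with restriction. -/
noncomputable def pullRestrictIso (O : X.Opens) :
    Scheme.Modules.pullback f ⋙ R[f ⁻¹ᵁ O] ≅ R[O] ⋙ Scheme.Modules.pullback (f ∣_ O) :=
  Functor.isoWhiskerLeft _ (Scheme.Modules.restrictFunctorIsoPullback (f ⁻¹ᵁ O).ι) ≪≫
    Scheme.Modules.pullbackComp (f ⁻¹ᵁ O).ι f ≪≫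
    Scheme.Modules.pullbackCongr (morphismRestrict_ι f O).symm ≪≫
    (Scheme.Modules.pullbackComp (f ∣_ O) O.ι).symm ≪≫
    Functor.isoWhiskerRight (Scheme.Modules.restrictFunctorIsoPullback O.ι).symm _

theorem isIso_pullback_restrict_iff {M N : X.Modules} (h : M ⟶ N) (O : X.Opens) :
    IsIso (R[f ⁻¹ᵁ O].map ((Scheme.Modules.pullback f).map h)) ↔
      IsIso ((Scheme.Modules.pullback (f ∣_ O)).map (R[O].map h)) :=
  NatIso.isIso_map_iff (pullRestrictIso f O) h

/-- Pulling back and forth along an isomorphism. -/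
noncomputable def pullInvIso {Y Z : Scheme.{u}} (e : Y ⟶ Z) [IsIso e] :
    Scheme.Modules.pullback e ⋙ Scheme.Modules.pullback (inv e) ≅ 𝟭 Z.Modules :=
  Scheme.Modules.pullbackComp (inv e) e ≪≫ Scheme.Modules.pullbackCongr (IsIso.inv_hom_id e) ≪≫
    Scheme.Modules.pullbackId _

theorem isIso_of_pullback_iso {Y Z : Scheme.{u}} (e : Y ⟶ Z) [IsIso e] {M N : Z.Modules} (h : M ⟶ N)
    (hh : IsIso ((Scheme.Modules.pullback e).map h)) : IsIso h :=
  (NatIso.isIso_map_iff (pullInvIso e) h).1
    (inferInstanceAs (IsIso ((Scheme.Modules.pullback (inv e)).map ((Scheme.Modules.pullback e).map h))))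

theorem isFinLocFree_of_pullback_iso {Y Z : Scheme.{u}} (e : Y ⟶ Z) [IsIso e] {M : Z.Modules}
    (hh : FlatMod.IsFinLocFree ((Scheme.Modules.pullback e).obj M)) : FlatMod.IsFinLocFree M :=
  DCoh.isFinLocFree_of_iso ((pullInvIso e).app M) (OX.isFinLocFree_pullback (inv e) hh)

theorem isNilpotent_of_specHom_surjective {A : Type u} [CommRing A] (I : Ideal A)
    (hs : Function.Surjective (OX.specHom (Ideal.Quotient.mk I)).base) (x : A) (hx : x ∈ I) : IsNilpotent x := by
  have hr := range_comap_of_surjective (A ⧸ I) (Ideal.Quotient.mk I) Ideal.Quotient.mk_surjective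
  rw [Ideal.mk_ker] at hr
  have : PrimeSpectrum.zeroLocus (I : Set A) = Set.univ := hr.symm.trans (Set.range_eq_univ.2 hs)
  exact mem_nilradical.1 ((PrimeSpectrum.zeroLocus_eq_univ_iff _).1 this hx)

theorem exists_tilde_finite_projective {R : CommRingCat.{u}} {E : (Spec R).Modules}
    (hE : FlatMod.IsFinLocFree E) :
    ∃ M : ModuleCat.{u} R, Module.Finite R M ∧ Module.Projective R M ∧ Nonempty ((tilde.functor R).obj M ≅ E) := by
  haveI := Euler.isQuasicoherent_of_isFinLocFree hE
  haveI hiso : IsIso E.fromTildeΓ := (isQuasicoherent_iff_isIso_fromTildeΓ E).1 inferInstance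
  refine ⟨(moduleSpecΓFunctor (R := R)).obj E, ?_, ?_, ⟨asIso E.fromTildeΓ⟩⟩
  · exact QCoh.moduleFinite_top_spec E (Euler.isCoh_of_isFinLocFree hE).2
  · exact (Groth.Agent.S7392.result R _).1
      (LocProj.isLP_of_iso (asIso E.fromTildeΓ).symm (AffineHom22.isLP_of_isFinLocFree hE))

theorem exists_spec_lift {A : Type u} [CommRing A] (I : Ideal A) [HenselianRing A I]
    {E₀ : (Spec (CommRingCat.of (A ⧸ I))).Modules} (hE₀ : FlatMod.IsFinLocFree E₀) :
    ∃ E₁ : (Spec (CommRingCat.of A)).Modules, FlatMod.IsFinLocFree E₁ ∧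
      Nonempty ((Scheme.Modules.pullback (OX.specHom (Ideal.Quotient.mk I))).obj E₁ ≅ E₀) := by
  obtain ⟨M, hMf, hMp, ⟨θ⟩⟩ := exists_tilde_finite_projective (R := CommRingCat.of (A ⧸ I)) hE₀
  obtain ⟨P, _, _, hPf, hPp, ⟨ψ⟩⟩ := Hensel.exists_projective_lift I M
  let i₁ : (ModuleCat.extendScalars (Ideal.Quotient.mk I)).obj (ModuleCat.of A P) ≅ M := LinearEquiv.toModuleIso ψ
  exact ⟨_, OX.isFinLocFree_tilde (R := CommRingCat.of A) (ModuleCat.of A P),
    ⟨(OX.tildePullIso (Ideal.Quotient.mk I)).app (ModuleCat.of A P) ≪≫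
      (tilde.functor (CommRingCat.of (A ⧸ I))).mapIso i₁ ≪≫ θ⟩⟩

/-- Transporting a lift along isomorphisms. -/
theorem exists_lift_of_iso {Y Y' : Scheme.{u}} (g : Y' ⟶ Y) (h : X ⟶ Y) [IsIso h] (e : X' ⟶ Y') [IsIso e]
    (he : f ≫ h = e ≫ g) {E' : X'.Modules} (hE' : FlatMod.IsFinLocFree E')
    (hl : ∀ E₀ : Y'.Modules, FlatMod.IsFinLocFree E₀ →
      ∃ E₁ : Y.Modules, FlatMod.IsFinLocFree E₁ ∧ Nonempty ((Scheme.Modules.pullback g).obj E₁ ≅ E₀)) :
    ∃ E : X.Modules, FlatMod.IsFinLocFree E ∧ Nonempty ((Scheme.Modules.pullback f).obj E ≅ E') := by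
  obtain ⟨E₁, hE₁, ⟨θ⟩⟩ := hl _ (OX.isFinLocFree_pullback (inv e) hE')
  exact ⟨(Scheme.Modules.pullback h).obj E₁, OX.isFinLocFree_pullback h hE₁,
    ⟨(Scheme.Modules.pullbackComp f h).app E₁ ≪≫ (Scheme.Modules.pullbackCongr he).app E₁ ≪≫
      ((Scheme.Modules.pullbackComp e g).app E₁).symm ≪≫ (Scheme.Modules.pullback e).mapIso θ ≪≫
      (Scheme.Modules.pullbackComp e (inv e)).app E' ≪≫
      (Scheme.Modules.pullbackCongr (IsIso.hom_inv_id e)).app E' ≪≫ (Scheme.Modules.pullbackId _).app E'⟩⟩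

/-- **Lifting a vector bundle along a nilimmersion into an affine scheme.** -/
theorem exists_affine_lift [IsAffine X] [IsClosedImmersion f] [Surjective f] {E' : X'.Modules}
    (hE' : FlatMod.IsFinLocFree E') :
    ∃ E : X.Modules, FlatMod.IsFinLocFree E ∧ Nonempty ((Scheme.Modules.pullback f).obj E ≅ E') := by
  obtain ⟨I, e, he⟩ := (IsClosedImmersion.Spec_iff (f := f ≫ X.isoSpec.hom)).1 inferInstance
  haveI : HenselianRing Γ(X, ⊤) I := Hensel.henselianRing_of_isNilpotent I
    (isNilpotent_of_specHom_surjective I fun y => by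
      obtain ⟨z, hz⟩ := (f ≫ X.isoSpec.hom).surjective y
      exact ⟨e.hom.base z, by rw [← hz, he]; rfl⟩)
  exact exists_lift_of_iso f (OX.specHom (Ideal.Quotient.mk I)) X.isoSpec.hom e.hom he hE'
    fun E₀ hE₀ => exists_spec_lift I hE₀

variable [IsClosedImmersion f]

theorem isQuasicoherent_push {E' : X'.Modules} (hE' : FlatMod.IsFinLocFree E') :
    ((Scheme.Modules.pushforward f).obj E').IsQuasicoherent :=
  haveI := Euler.isQuasicoherent_of_isFinLocFree hE'
  QCoh.isQuasicoherent_pushforward f _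

/-- **Lifting a vector bundle along a nilimmersion**, when affine opens overlapping only where it is
invertible, together with that open, cover everything. -/
theorem exists_finLocFree_lift [Surjective f] (W : X.Opens) [IsIso (f ∣_ W)] {ι : Type} [Finite ι]
    (T : ι → X.Opens) (hTa : ∀ i, IsAffineOpen (T i)) (hT : ∀ i j, i ≠ j → T i ⊓ T j ≤ W)
    (hcov : ∀ x : X, x ∈ W ∨ ∃ i, x ∈ T i) {E' : X'.Modules} (hE' : FlatMod.IsFinLocFree E') :
    ∃ E : X.Modules, FlatMod.IsFinLocFree E ∧ Nonempty ((Scheme.Modules.pullback f).obj E ≅ E') := by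
  classical
  let Q : X.Modules := (Scheme.Modules.pushforward f).obj E'
  have hE'r : ∀ O : X.Opens, FlatMod.IsFinLocFree (R[f ⁻¹ᵁ O].obj E') := fun O =>
    OX.isFinLocFree_restrict (f ⁻¹ᵁ O).ι hE'
  -- the comparisons over the affine opens
  have key : ∀ i, ∃ (G : X.Modules) (g : G ⟶ Q), ZeroOff G (T i) ∧ FlatMod.IsFinLocFree (R[T i].obj G) ∧
      IsIso ((Scheme.Modules.pullback (f ∣_ T i)).map (R[T i].map g)) := fun i => by
    haveI : IsAffine (T i : Scheme.{u}) := hTa i
    haveI : Surjective (f ∣_ T i) := IsZariskiLocalAtTarget.restrict (P := @Surjective) (f := f) ‹_› _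
    obtain ⟨E, hE, ⟨ψ⟩⟩ := exists_affine_lift (f ∣_ T i) (hE'r (T i))
    let σ := (OX.pushRestrictIso f (T i)).app E'
    let v : E ⟶ R[T i].obj Q :=
      (Scheme.Modules.pullbackPushforwardAdjunction (f ∣_ T i)).homEquiv _ _ ψ.hom ≫ σ.inv
    have hv : IsIso ((Scheme.Modules.pullback (f ∣_ T i)).map v) := by
      let adj := Scheme.Modules.pullbackPushforwardAdjunction (f ∣_ T i)
      haveI := isQuasicoherent_push (f ∣_ T i) (hE'r (T i))
      haveI := LeffAmp7.isIso_counit_closed (f ∣_ T i) (R[f ⁻¹ᵁ T i].obj E')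
      haveI : IsIso ((Scheme.Modules.pullback (f ∣_ T i)).map (adj.homEquiv _ _ ψ.hom)) := by
        exact IsIso.of_isIso_fac_right ((adj.homEquiv_counit _ _ _).symm.trans
          ((adj.homEquiv _ _).symm_apply_apply ψ.hom))
      rw [Functor.map_comp]
      exact IsIso.comp_isIso
    let g : (CxOX.extZero (T i).ι).obj E ⟶ Q := ((CxOX.extZeroAdj (T i).ι).homEquiv _ _).symm v
    let η : E ⟶ R[T i].obj ((CxOX.extZero (T i).ι).obj E) := (CxOX.extZeroAdj (T i).ι).unit.app E
    haveI : IsIso η := inferInstanceAs (IsIso ((CxOX.extZeroAdj (T i).ι).unit.app E))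
    have hgv : η ≫ R[T i].map g = v :=
      ((CxOX.extZeroAdj (T i).ι).homEquiv_unit _ _ _).symm.trans
        (((CxOX.extZeroAdj (T i).ι).homEquiv _ _).apply_symm_apply v)
    refine ⟨_, g, zeroOff_extZero _ _, DCoh.isFinLocFree_of_iso (asIso η) hE, ?_⟩
    haveI := hv
    exact IsIso.of_isIso_fac_left (((Scheme.Modules.pullback (f ∣_ T i)).map_comp η _).symm.trans
      (congrArg (Scheme.Modules.pullback (f ∣_ T i)).map hgv))
  choose G g hG hGf hg using key
  have hgW : ∀ i, IsIso (R[W ⊓ T i].map (g i)) := fun i => by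
    haveI : IsIso (f ∣_ (W ⊓ T i)) := Nagata6.isIso_restrict_of_le f _ _ inf_le_left
    refine isIso_of_pullback_iso (f ∣_ (W ⊓ T i)) _ ((isIso_pullback_restrict_iff f (g i) _).1 ?_)
    exact isIso_restrict_mono _ (f.preimage_mono inf_le_right) ((isIso_pullback_restrict_iff f (g i) _).2 (hg i))
  cases nonempty_fintype ι
  obtain ⟨K, u, -, hu, hcmp⟩ := (nonempty_glued Q W T G g hG hgW hT Finset.univ).some
  haveI := isQuasicoherent_push f hE'
  haveI := LeffAmp7.isIso_counit_closed f E'
  haveI : IsIso ((Scheme.Modules.pullback f).map u) := by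
    refine OX.isIso_of_restrict_cover _ (fun o : Option ι => f ⁻¹ᵁ o.elim W T)
      (fun x => (hcov (f x)).elim (fun h => ⟨none, h⟩) fun ⟨i, h⟩ => ⟨some i, h⟩) fun o => ?_
    rw [isIso_pullback_restrict_iff]
    rcases o with _ | i
    · haveI : IsIso (R[(none : Option ι).elim W T].map u) := hu
      infer_instance
    · obtain ⟨c, hc, hcT⟩ := hcmp i (Finset.mem_univ i)
      haveI : IsIso ((Scheme.Modules.pullback (f ∣_ T i)).map (R[T i].map c)) := inferInstance
      haveI := hg i
      exact IsIso.of_isIso_fac_left (h := (Scheme.Modules.pullback (f ∣_ T i)).map (R[T i].map (g i)))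
        ((Functor.map_comp _ _ _).symm.trans (congrArg (Scheme.Modules.pullback (f ∣_ T i)).map
          ((Functor.map_comp _ _ _).symm.trans (congrArg R[T i].map hc))))
  let ψ : (Scheme.Modules.pullback f).obj K ≅ E' :=
    asIso ((Scheme.Modules.pullback f).map u) ≪≫
      asIso ((Scheme.Modules.pullbackPushforwardAdjunction f).counit.app E')
  refine ⟨K, OX.isFinLocFree_of_local fun x => ?_, ⟨ψ⟩⟩
  rcases hcov x with hx | ⟨i, hx⟩
  · refine ⟨_, W.ι, inferInstance, by rw [Scheme.Opens.range_ι]; exact hx, ?_⟩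
    refine isFinLocFree_of_pullback_iso (f ∣_ W) ?_
    exact DCoh.isFinLocFree_of_iso
      (((pullRestrictIso f W).app K).symm ≪≫ (R[f ⁻¹ᵁ W]).mapIso ψ).symm (hE'r W)
  · obtain ⟨c, hc, hcT⟩ := hcmp i (Finset.mem_univ i)
    exact ⟨_, (T i).ι, inferInstance, by rw [Scheme.Opens.range_ι]; exact hx,
      DCoh.isFinLocFree_of_iso (asIso (R[T i].map c)) (hGf i)⟩

end Lift

end GrothLib.NilGlue24
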