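import Groth.Agent.Lib.ResProp.NilGlueOpen
import Groth.Agent.Lib.ResProp.AmpleFamNil
import Groth.Agent.Lib.AmpSpread10.InvModel
import Groth.Agent.Lib.RLpsi8.AmpleThick
import Groth.Prelude.Def_KSix

/-!
# Lifting ample families along nilimmersions
-/

set_option autoImplicit false
set_option backward.isDefEq.respectTransparency false
set_option linter.style.haveILetI false
set_option maxHeartbeats 1000000

universe u

open CategoryTheory CategoryTheory.Limits AlgebraicGeometry Opposite TopologicalSpace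
open GrothLib.Ample

noncomputable section

namespace GrothLib.NilGlue24

variable {X X' : Scheme.{u}} (f : X' ⟶ X)

/-- A finite locally free module which becomes invertible on a surjective cover is invertible. -/
theorem isInvertible_of_pullback_surjective [Surjective f] {E : X.Modules} (hE : FlatMod.IsFinLocFree E)
    (h : PicF.IsInvertible ((Scheme.Modules.pullback f).obj E)) : PicF.IsInvertible E := by
  refine (Seesaw26.isInvertible_iff_rank_one E).1 fun x => ?_
  obtain ⟨U, n, hx, ⟨e⟩⟩ := hE x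
  obtain ⟨z, rfl⟩ := f.surjective x
  have hn : n = 1 := AmpSpread10.eq_one_of_pullback (f ∣_ U) (⟨z, hx⟩ : (f ⁻¹ᵁ U : Scheme.{u}))
    (OX.isFinLocFreeOfRank_of_iso e.symm (K0Sub.isFinLocFreeOfRank_freeMod n))
    (ParaPair.isInvertible_of_iso
      (((pullRestrictIso f U).app E).symm ≪≫ (Scheme.Modules.restrictFunctorIsoPullback (f ⁻¹ᵁ U).ι).app _)
      (Ample.isInvertible_pullback (f ⁻¹ᵁ U).ι h))
  subst hn
  exact ⟨U, hx, ⟨e⟩⟩

/-- A family whose pullback along a nilimmersion is ample is ample. -/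
theorem isAmpleFamily_of_pullback [IsClosedImmersion f] [Surjective f] {ι : Type u} (L : ι → X.Modules)
    (hL : ∀ i, FlatMod.IsFinLocFree (L i)) (L' : ι → X'.Modules)
    (e : ∀ i, (Scheme.Modules.pullback f).obj (L i) ≅ L' i) (h : KSix.IsAmpleFamily L') :
    KSix.IsAmpleFamily L := by
  obtain ⟨hc, hqs, hinv, hcov⟩ := h
  have hi := RLpsi8.isHomeomorph_of_thickening f
  have : CompactSpace X := hi.surjective.compactSpace hi.continuous
  have : QuasiSeparatedSpace X := ⟨fun A B hA hA' hB hB' => by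
    have e := hi.homeomorph.isCompact_preimage (s := A ∩ B)
    rw [← e, Set.preimage_inter]
    exact QuasiSeparatedSpace.inter_isCompact _ _ (hA.preimage hi.homeomorph.continuous)
      (hi.homeomorph.isCompact_preimage.2 hA') (hB.preimage hi.homeomorph.continuous)
      (hi.homeomorph.isCompact_preimage.2 hB')⟩
  have hLinv : ∀ i, PicF.IsInvertible (L i) := fun i =>
    isInvertible_of_pullback_surjective f (hL i) (ParaPair.isInvertible_of_iso (e i) (hinv i))
  refine ⟨inferInstance, inferInstance, hLinv, fun x => ?_⟩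
  obtain ⟨z, rfl⟩ := f.surjective x
  obtain ⟨i, n, s, hz, hs⟩ := hcov z
  obtain ⟨c, ⟨ec⟩⟩ := Ample.exists_cocycle (hLinv i)
  obtain ⟨d⟩ := c.nonempty_pullback_iso f ec
  obtain ⟨d'⟩ := (c.comap f).nonempty_tensorPow_iso ((e i).symm ≪≫ d) (n + 1)
  obtain ⟨a, ha⟩ := (c.comap f).exists_sect_of_section d' s
  obtain ⟨N, b, hzb, hb⟩ := exists_affine_locus_of_comap f hi c a (by rw [ha]; exact hz) (by rw [ha]; exact hs)
  obtain ⟨d''⟩ := c.nonempty_tensorPow_iso ec (N + 1)
  obtain ⟨t, ht⟩ := c.exists_section_of_sect d'' b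
  exact ⟨i, N, t, by rw [ht]; exact hzb, by rw [ht]; exact hb⟩

/-- **The open over which ample families lift.** -/
theorem exists_open_ampleFamily_lift [NoetherianSpace X] [IsClosedImmersion f] [Surjective f]
    (W : X.Opens) (hW : IsIso (f ∣_ W)) :
    ∃ V : X.Opens, W ≤ V ∧ (W : Set X)ᶜ ⊆ closure ((V : Set X) ∩ (W : Set X)ᶜ) ∧
      (∃ (T : Scheme.{u}) (g : T ⟶ (V : Scheme.{u})), IsClosedImmersion g ∧ IsAffine T ∧
        Set.range (g ≫ V.ι).base = (V : Set X) ∩ (W : Set X)ᶜ) ∧
      ∀ (ι : Type u) (L' : ι → (f ⁻¹ᵁ V : Scheme.{u}).Modules), KSix.IsAmpleFamily L' →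
        ∃ L : ι → (V : Scheme.{u}).Modules, KSix.IsAmpleFamily L ∧
          ∀ i : ι, Nonempty ((Scheme.Modules.pullback (f ∣_ V)).obj (L i) ≅ L' i) := by
  obtain ⟨V, h1, h2, h3, h4⟩ := exists_open_lift f W hW
  refine ⟨V, h1, h2, h3, fun ι L' hL' => ?_⟩
  haveI : Surjective (f ∣_ V) := IsZariskiLocalAtTarget.restrict (P := @Surjective) (f := f) ‹_› _
  choose L hL e using fun i => h4 (L' i) (Euler.isFinLocFree_of_isInvertible (hL'.2.2.1 i))
  exact ⟨L, isAmpleFamily_of_pullback (f ∣_ V) L hL L' (fun i => (e i).some) hL', e⟩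

end GrothLib.NilGlue24
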